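import Cfsg.Agent.Frobenius.UniqueSubgroup
import Cfsg.Agent.Coprime.Fitting
import Cfsg.Agent.Coprime.Sylow
import Cfsg.Agent.Components.PComponents
import Cfsg.Agent.Transfer.Basic

/-!
Sylow subgroups of a solvable group in which abelian subgroups of equal order are conjugate: they are
elementary abelian, cyclic, or quaternion of order eight.
-/

set_option linter.style.haveILetI false
set_option linter.unusedSectionVars false

namespace Cfsg.Lib.BGroups

open Subgroup Cfsg.Lib.Components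

universe u

variable {G : Type u} [Group G] [Finite G]

/-- abelian subgroups of equal order are conjugate -/
def AbConj (G : Type u) [Group G] : Prop :=
  ∀ A B : Subgroup G, IsMulCommutative ↥A → IsMulCommutative ↥B → Nat.card ↥A = Nat.card ↥B →
    ∃ g : G, B = A.map (MulAut.conj g).toMonoidHom

theorem AbConj.cyclic (hB : AbConj G) {x y : G} (h : orderOf x = orderOf y) :
    ∃ (g : G) (k : ℤ), y = g * x ^ k * g⁻¹ := by
  obtain ⟨g, hg⟩ := hB (zpowers x) (zpowers y) inferInstance inferInstance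
    (by rw [Nat.card_zpowers, Nat.card_zpowers, h])
  have hy : y ∈ (zpowers x).map (MulAut.conj g).toMonoidHom := hg ▸ mem_zpowers y
  obtain ⟨z, hz, rfl⟩ := hy
  obtain ⟨k, rfl⟩ := mem_zpowers_iff.mp hz
  exact ⟨g, k, rfl⟩

/-- a normal subgroup containing an element contains all elements of the same order -/
theorem AbConj.mem_of_orderOf_eq (hB : AbConj G) {N : Subgroup G} [hN : N.Normal] {x y : G} (hx : x ∈ N)
    (h : orderOf x = orderOf y) : y ∈ N := by
  obtain ⟨g, k, rfl⟩ := hB.cyclic h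
  exact hN.conj_mem _ (zpow_mem hx k) g

theorem quaternion_order_four {n : ℕ} (i : ZMod (2 * 2 ^ n)) : orderOf (QuaternionGroup.xa i) = 4 :=
  QuaternionGroup.orderOf_xa i

/-- in a generalised quaternion group of order at least sixteen the elements `a^m` and `xa` of order four
are not related by an automorphism -/
theorem quaternion_not_fused {R : Type*} [Group R] {n : ℕ} (hn : 2 ≤ n) (e : R ≃* QuaternionGroup (2 ^ n))
    (φ : MulAut R) (i : ZMod (2 * 2 ^ n)) (j : ZMod (2 * 2 ^ n)) :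
    e (φ (e.symm (QuaternionGroup.a i))) ≠ QuaternionGroup.xa j := by
  intro h
  set g := e (φ (e.symm (QuaternionGroup.a 1))) with hg
  have hpow : e (φ (e.symm (QuaternionGroup.a i))) = g ^ i.val := by
    rw [hg, ← map_pow, ← map_pow, ← map_pow, QuaternionGroup.a_one_pow, ZMod.natCast_zmod_val]
  have ho : orderOf g = 2 * 2 ^ n := by
    rw [hg, MulEquiv.orderOf_eq, MulEquiv.orderOf_eq φ, MulEquiv.orderOf_eq, QuaternionGroup.orderOf_a_one]
  rcases hx : g with k | k
  · rw [hpow, hx] at h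
    have hk : ∀ m : ℕ, ∃ l, (QuaternionGroup.a k : QuaternionGroup (2 ^ n)) ^ m = QuaternionGroup.a l := by
      intro m
      induction m with
      | zero => exact ⟨0, rfl⟩
      | succ m ih =>
        obtain ⟨l, hl⟩ := ih
        exact ⟨l + k, by rw [pow_succ, hl, QuaternionGroup.a_mul_a]⟩
    obtain ⟨l, hl⟩ := hk i.val
    rw [hl] at h
    cases h
  · rw [hx, quaternion_order_four] at ho
    have h4 : 2 ^ 2 ≤ 2 ^ n := Nat.pow_le_pow_right (by norm_num) hn
    omega

theorem elementary_or_unique {p : ℕ} [hp : Fact p.Prime] {P : Subgroup G} (hP : IsPGroup p P) (hB : AbConj G) :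
    (∀ x ∈ P, x ^ p = 1) ∨ ∀ x y : ↥P, orderOf x = p → orderOf y = p → y ∈ zpowers x := by
  refine or_iff_not_imp_right.mpr fun hu => ?_
  push Not at hu
  obtain ⟨x, y, hx, hy, hxy⟩ := hu
  haveI : Nontrivial ↥P := ⟨⟨x, 1, fun h => by rw [h, orderOf_one] at hx; exact hp.out.ne_one hx.symm⟩⟩
  haveI := hP.center_nontrivial
  obtain ⟨z, hz⟩ := exists_prime_orderOf_dvd_card' (p := p) (G := center ↥P) (by
    obtain ⟨n, hn⟩ := IsPGroup.iff_card.mp (hP.to_subgroup (center ↥P))
    rw [hn]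
    refine dvd_pow_self p fun h => ?_
    rw [h, pow_zero] at hn
    exact absurd hn Finite.one_lt_card.ne')
  have hzo : orderOf (z : ↥P) = p := by rw [orderOf_coe, hz]
  obtain ⟨w, hwo, hwz⟩ : ∃ w : ↥P, orderOf w = p ∧ w ∉ zpowers (z : ↥P) := by
    by_contra hcon
    push Not at hcon
    have hle : zpowers x ≤ zpowers (z : ↥P) := zpowers_le.mpr (hcon x hx)
    have he : zpowers x = zpowers (z : ↥P) :=
      eq_of_le_of_card_ge hle (by rw [Nat.card_zpowers, Nat.card_zpowers, hx, hzo])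
    exact hxy (he ▸ hcon y hy)
  set B : Subgroup G := (zpowers w ⊔ zpowers (z : ↥P)).map P.subtype with hBdef
  have hcomm : zpowers (z : ↥P) ≤ centralizer (zpowers w : Set ↥P) :=
    le_trans (zpowers_le.mpr z.2) (center_le_centralizer _)
  have hn : zpowers (z : ↥P) ≤ normalizer (zpowers w : Set ↥P) := hcomm.trans (centralizer_le_normalizer _)
  have hinf : zpowers w ⊓ zpowers (z : ↥P) = ⊥ := by
    rw [eq_bot_iff]
    intro t ht
    by_contra htb
    have h1 : zpowers t = zpowers w := eq_of_le_of_card_ge (zpowers_le.mpr ht.1) (by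
      rw [Nat.card_zpowers, Nat.card_zpowers, hwo]
      refine Nat.le_of_eq (orderOf_eq_prime ?_ (fun h => htb (mem_bot.mpr h))).symm
      obtain ⟨k, rfl⟩ := mem_zpowers_iff.mp ht.1
      rw [← zpow_natCast, ← zpow_mul, mul_comm, zpow_mul, zpow_natCast, ← hwo, pow_orderOf_eq_one, one_zpow])
    exact hwz (zpowers_le.mpr ht.2 (h1 ▸ mem_zpowers w))
  have hcard : Nat.card ↥B = p ^ 2 := by
    have h := Cfsg.Lib.Coprime.card_sup_mul_card_inf hn
    rw [hinf, card_bot, mul_one, Nat.card_zpowers, Nat.card_zpowers, hwo, hzo] at h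
    rw [hBdef, card_map_of_injective P.subtype_injective, h, pow_two]
  have hexp : ∀ t ∈ zpowers w ⊔ zpowers (z : ↥P), t ^ p = 1 := by
    intro t ht
    have ht' : t ∈ ((zpowers w ⊔ zpowers (z : ↥P) : Subgroup ↥P) : Set ↥P) := ht
    rw [coe_mul_of_right_le_normalizer_left _ _ hn] at ht'
    obtain ⟨a, ha, b, hb, rfl⟩ := ht'
    obtain ⟨i, rfl⟩ := mem_zpowers_iff.mp ha
    obtain ⟨j, rfl⟩ := mem_zpowers_iff.mp hb
    have hc : Commute (w ^ i) ((z : ↥P) ^ j) :=
      Commute.zpow_zpow (mem_center_iff.mp z.2 w) i j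
    show (w ^ i * (z : ↥P) ^ j) ^ p = 1
    rw [hc.mul_pow, ← zpow_natCast, ← zpow_mul, mul_comm i, zpow_mul, zpow_natCast, ← zpow_natCast ((z : ↥P) ^ j),
      ← zpow_mul, mul_comm j, zpow_mul, zpow_natCast]
    conv_lhs => rw [← hwo, pow_orderOf_eq_one, one_zpow, one_mul, hwo, ← hzo, pow_orderOf_eq_one, one_zpow]
  have hBc : IsMulCommutative ↥B := by
    refine ⟨⟨?_⟩⟩
    rintro ⟨_, a, ha, rfl⟩ ⟨_, b, hb, rfl⟩
    refine Subtype.ext ?_
    show P.subtype a * P.subtype b = P.subtype b * P.subtype a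
    have hab : zpowers w ⊔ zpowers (z : ↥P) ≤
        centralizer ((zpowers w ⊔ zpowers (z : ↥P) : Subgroup ↥P) : Set ↥P) := by
      refine sup_le (le_centralizer_iff.mp (sup_le ?_ hcomm))
        (le_trans (zpowers_le.mpr z.2) (center_le_centralizer _))
      exact fun t ht => mem_centralizer_iff.mpr fun s hs => by
        obtain ⟨i, rfl⟩ := mem_zpowers_iff.mp ht
        obtain ⟨j, rfl⟩ := mem_zpowers_iff.mp hs
        exact ((Commute.refl w).zpow_zpow j i).eq
    rw [← map_mul, ← map_mul, mem_centralizer_iff.mp (hab hb) a ha]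
  intro v hv
  by_contra hv1
  obtain ⟨k, hk⟩ := (IsPGroup.iff_orderOf.mp hP) ⟨v, hv⟩
  rw [orderOf_mk] at hk
  have hk2 : 2 ≤ k := by
    by_contra hlt
    exact hv1 (orderOf_dvd_iff_pow_eq_one.mp (hk.dvd.trans ((pow_dvd_pow p (show k ≤ 1 by omega)).trans (pow_one p).dvd)))
  have hu : orderOf (v ^ p ^ (k - 2)) = p ^ 2 := by
    rw [orderOf_pow' v (pow_ne_zero _ hp.out.ne_zero), hk,
      Nat.gcd_eq_right (pow_dvd_pow p (show k - 2 ≤ k by omega)), Nat.pow_div (by omega) hp.out.pos]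
    congr 1
    omega
  obtain ⟨g, hg⟩ := hB B (zpowers (v ^ p ^ (k - 2))) hBc inferInstance (by rw [hcard, Nat.card_zpowers, hu])
  obtain ⟨_, ⟨t, ht, rfl⟩, he⟩ := (hg ▸ mem_zpowers (v ^ p ^ (k - 2)) : _ ∈ B.map (MulAut.conj g).toMonoidHom)
  have h1 : (v ^ p ^ (k - 2)) ^ p = 1 := by
    rw [← he, ← map_pow, ← map_pow, hexp t ht, map_one, map_one]
  have h2 := orderOf_dvd_of_pow_eq_one h1
  rw [hu] at h2
  exact absurd (Nat.le_of_dvd hp.out.pos h2) (not_le.mpr (by
    conv_lhs => rw [← pow_one p]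
    exact Nat.pow_lt_pow_right hp.out.one_lt (by norm_num)))

variable [Group.IsSolvable G]

/-- the image of a Sylow subgroup modulo the `p'`-core -/
theorem injective_on_sylow {p : ℕ} [Fact p.Prime] (P : Sylow p G) :
    Function.Injective ((QuotientGroup.mk' (pPrimeCore p G)).comp (P : Subgroup G).subtype) := by
  rw [injective_iff_map_eq_one]
  intro x hx
  have h1 : orderOf (x : G) ∣ Nat.card ↥(pPrimeCore p G) := by
    have hmem : (x : G) ∈ pPrimeCore p G := (QuotientGroup.eq_one_iff _).mp hx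
    have := orderOf_dvd_natCard (⟨(x : G), hmem⟩ : ↥(pPrimeCore p G))
    rwa [orderOf_mk] at this
  obtain ⟨k, hk⟩ := IsPGroup.iff_orderOf.mp P.2 x
  rw [orderOf_coe, hk] at h1
  have h2 : p ^ k = 1 := Nat.eq_one_of_dvd_coprimes ((coprime_card_pPrimeCore (G := G) p).pow_right k) h1 dvd_rfl
  rw [h2] at hk
  exact orderOf_eq_one_iff.mp hk

theorem pCore_quotient_ne_bot {p : ℕ} [hp : Fact p.Prime] (P : Sylow p G) (hP : (P : Subgroup G) ≠ ⊥) :
    pCore p (G ⧸ pPrimeCore p G) ≠ ⊥ := by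
  intro h
  have hc := Cfsg.Lib.Coprime.centralizer_pCore_le (G := G ⧸ pPrimeCore p G) p pPrimeCore_quotient_eq_bot
  rw [h] at hc
  obtain ⟨⟨x, hx⟩, hxne⟩ := Subgroup.ne_bot_iff_exists_ne_one.mp hP
  have hx1 : x ≠ 1 := fun h => hxne (Subtype.ext h)
  have : QuotientGroup.mk' (pPrimeCore p G) x = 1 := by
    have hmem : QuotientGroup.mk' (pPrimeCore p G) x ∈ centralizer ((⊥ : Subgroup (G ⧸ pPrimeCore p G)) : Set _) :=
      mem_centralizer_iff.mpr fun y hy => by rw [SetLike.mem_coe, mem_bot] at hy; simp [hy]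
    exact mem_bot.mp (hc hmem)
  exact hx1 (congrArg Subtype.val (injective_on_sylow P (this.trans (map_one _).symm) : (⟨x, hx⟩ : ↥(P : Subgroup G)) = 1))

theorem pCore_quotient_le {p : ℕ} [Fact p.Prime] (P : Sylow p G) :
    pCore p (G ⧸ pPrimeCore p G) ≤ (P : Subgroup G).map (QuotientGroup.mk' (pPrimeCore p G)) :=
  (Cfsg.Lib.Coprime.pCore_le_sylow p (P.mapSurjective (QuotientGroup.mk'_surjective (pPrimeCore p G)))).trans
    (Sylow.coe_mapSurjective _ _).le

/-- the Sylow trichotomy -/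
theorem sylow_cases (hB : AbConj G) {p : ℕ} [hp : Fact p.Prime] (P : Sylow p G) :
    ((∀ x ∈ (P : Subgroup G), x ^ p = 1) ∧ IsMulCommutative ↥(P : Subgroup G)) ∨
      IsCyclic ↥(P : Subgroup G) ∨ (p = 2 ∧ Nonempty (↥(P : Subgroup G) ≃* QuaternionGroup 2)) := by
  set π := QuotientGroup.mk' (pPrimeCore p G) with hπ
  have hπs : Function.Surjective π := QuotientGroup.mk'_surjective _
  set Q := pCore p (G ⧸ pPrimeCore p G)
  have hQP : Q ≤ (P : Subgroup G).map π := pCore_quotient_le P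
  have hinj := injective_on_sylow P
  have hCQ : centralizer (Q : Set (G ⧸ pPrimeCore p G)) ≤ Q :=
    Cfsg.Lib.Coprime.centralizer_pCore_le p pPrimeCore_quotient_eq_bot
  by_cases hPb : (P : Subgroup G) = ⊥
  · refine Or.inr (Or.inl ?_)
    rw [hPb]
    infer_instance
  have hQne : Q ≠ ⊥ := pCore_quotient_ne_bot P hPb
  rcases elementary_or_unique P.2 hB with hexp | huniq
  · refine Or.inl ⟨hexp, ?_⟩
    haveI : Nontrivial ↥Q := (nontrivial_iff_ne_bot Q).mpr hQne
    have hQp : IsPGroup p ↥Q := isPGroup_pCore p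
    haveI := hQp.center_nontrivial
    obtain ⟨c, hc⟩ := exists_ne (1 : ↥(center ↥Q))
    have hcZ : ((c : ↥Q) : G ⧸ pPrimeCore p G) ∈ Q ⊓ centralizer (Q : Set (G ⧸ pPrimeCore p G)) :=
      ⟨(c : ↥Q).2, mem_centralizer_iff.mpr fun y hy => congrArg Subtype.val (mem_center_iff.mp c.2 ⟨y, hy⟩)⟩
    obtain ⟨z, hzP, hz⟩ := hQP hcZ.1
    haveI : (Q ⊓ centralizer (Q : Set (G ⧸ pPrimeCore p G))).Normal := inferInstance
    have hz1 : z ≠ 1 := fun h => hc (Subtype.ext (Subtype.ext (hz.symm.trans (by rw [h, map_one]; rfl))))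
    have hzo : orderOf z = p := orderOf_eq_prime (hexp z hzP) hz1
    have hall : ∀ x ∈ (P : Subgroup G), π x ∈ Q ⊓ centralizer (Q : Set (G ⧸ pPrimeCore p G)) := by
      intro x hx
      by_cases hx1 : x = 1
      · rw [hx1, map_one]; exact one_mem _
      · exact mem_comap.mp (hB.mem_of_orderOf_eq (N := (Q ⊓ centralizer (Q : Set (G ⧸ pPrimeCore p G))).comap π)
          (mem_comap.mpr (hz ▸ hcZ)) (hzo.trans (orderOf_eq_prime (hexp x hx) hx1).symm))
    refine ⟨⟨fun x y => hinj ?_⟩⟩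
    show π ((x : G) * y) = π ((y : G) * x)
    rw [map_mul, map_mul]
    exact (mem_centralizer_iff.mp (hall y y.2).2 _ (hall x x.2).1)
  · rcases Cfsg.Lib.UniqueSub.isCyclic_or_quaternion P.2 huniq with hc | ⟨rfl, n, ⟨e⟩⟩
    · exact Or.inr (Or.inl hc)
    refine Or.inr ?_
    rcases Nat.lt_or_ge n 2 with hn | hn
    · interval_cases n
      · left
        haveI : IsCyclic (QuaternionGroup (2 ^ 0)) := QuaternionGroup.quaternionGroup_one_isCyclic
        exact e.symm.isCyclic.mp inferInstance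
      · exact Or.inr ⟨rfl, ⟨e⟩⟩
    exfalso
    -- the image of `P` is normal
    have ha2 : (e.symm (QuaternionGroup.a ((2 ^ n : ℕ) : ZMod (2 * 2 ^ n)))) ^ 2 = 1 := by
      rw [← map_pow, pow_two, QuaternionGroup.a_mul_a, ← Nat.cast_add, ← two_mul, ZMod.natCast_self,
        ← QuaternionGroup.one_def, map_one]
    let ψ : ↥(P : Subgroup G) ≃* ↥((P : Subgroup G).map π) := MulEquiv.ofBijective
      (π.subgroupMap (P : Subgroup G)) ⟨fun a b h => hinj (congrArg Subtype.val h),
        π.subgroupMap_surjective _⟩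
    have hfour : ∀ i : ZMod (2 * 2 ^ n), orderOf ((e.symm (QuaternionGroup.xa i) : ↥(P : Subgroup G)) : G) = 4 :=
      fun i => by rw [orderOf_coe, MulEquiv.orderOf_eq, quaternion_order_four]
    have hcardP : Nat.card ↥(P : Subgroup G) = 4 * 2 ^ n := by
      rw [Nat.card_congr e.toEquiv, Nat.card_eq_fintype_card, QuaternionGroup.card]
    have hbig : ∃ x ∈ (P : Subgroup G), π x ∈ Q ∧ orderOf x = 4 := by
      by_contra hcon
      push Not at hcon
      have h2 : ∀ y ∈ Q, y ^ 2 = 1 := by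
        intro y hy
        obtain ⟨x, hx, rfl⟩ := hQP hy
        by_contra hy2
        obtain ⟨k, hk⟩ := IsPGroup.iff_orderOf.mp P.2 ⟨x, hx⟩
        rw [orderOf_mk] at hk
        have hk2 : 2 ≤ k := by
          by_contra hlt
          refine hy2 ?_
          rw [← map_pow, orderOf_dvd_iff_pow_eq_one.mp (hk.dvd.trans ((pow_dvd_pow 2 (show k ≤ 1 by omega)).trans (pow_one 2).dvd)), map_one]
        refine hcon (x ^ 2 ^ (k - 2)) (pow_mem hx _) (by rw [map_pow]; exact pow_mem hy _) ?_
        rw [orderOf_pow' x (pow_ne_zero _ two_ne_zero), hk, Nat.gcd_eq_right (pow_dvd_pow 2 (show k - 2 ≤ k by omega)),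
          Nat.pow_div (by omega) two_pos, show k - (k - 2) = 2 by omega]
        rfl
      have hQ2 : Q ≤ (zpowers ((e.symm (QuaternionGroup.a (2 ^ n : ℕ)) : ↥(P : Subgroup G)) : G)).map π := by
        intro y hy
        obtain ⟨x, hx, rfl⟩ := hQP hy
        refine mem_map_of_mem π ?_
        by_cases hx1 : x = 1
        · rw [hx1]; exact one_mem _
        have hxo : orderOf (⟨x, hx⟩ : ↥(P : Subgroup G)) = 2 := orderOf_eq_prime
          (hinj ((map_pow π x 2).trans ((h2 _ hy).trans (map_one π).symm))) (fun h => hx1 (congrArg Subtype.val h))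
        have hzo : orderOf (e.symm (QuaternionGroup.a ((2 ^ n : ℕ) : ZMod (2 * 2 ^ n)))) = 2 := by
          rw [MulEquiv.orderOf_eq, ← QuaternionGroup.a_one_pow, orderOf_pow' _ (pow_ne_zero _ two_ne_zero),
            QuaternionGroup.orderOf_a_one, Nat.gcd_eq_right (dvd_mul_left _ _), Nat.mul_div_cancel _ (by positivity)]
        obtain ⟨j, hj⟩ := mem_zpowers_iff.mp (huniq _ _ hzo hxo)
        exact mem_zpowers_iff.mpr ⟨j, congrArg Subtype.val hj⟩
      -- a central subgroup cannot be self-centralizing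
      have hall : ∀ g : G ⧸ pPrimeCore 2 G, g ∈ centralizer (Q : Set (G ⧸ pPrimeCore 2 G)) := by
        intro g
        refine mem_centralizer_iff.mpr fun y hy => ?_
        have h1 : g * y * g⁻¹ ∈ Q := (inferInstance : Q.Normal).conj_mem y hy g
        have hc2 : Nat.card ↥Q ≤ 2 := by
          refine (Nat.le_of_dvd Nat.card_pos (card_dvd_of_le hQ2)).trans ?_
          refine (Nat.le_of_dvd Nat.card_pos (card_map_dvd _ _)).trans ?_
          rw [Nat.card_zpowers]
          refine Nat.le_of_dvd two_pos (orderOf_dvd_of_pow_eq_one ?_)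
          rw [← Subgroup.coe_pow, ha2]
          rfl
        by_cases hy1 : y = 1
        · simp [hy1]
        have hQ : (Q : Set (G ⧸ pPrimeCore 2 G)) = {1, y} := by
          symm
          refine Set.eq_of_subset_of_ncard_le (fun t ht => by rcases ht with rfl | rfl <;> [exact one_mem Q; exact hy]) ?_
          rw [Set.ncard_pair (Ne.symm hy1), ← Nat.card_coe_set_eq, SetLike.coe_sort_coe]
          exact hc2
        have h3 : g * y * g⁻¹ ∈ ({1, y} : Set _) := hQ ▸ h1
        rcases h3 with h3 | h3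
        · exact absurd (conj_eq_one_iff.mp h3) hy1
        · exact (mul_inv_eq_iff_eq_mul.mp h3).symm
      have htop : (P : Subgroup G).map π ≤ Q := fun y _ => hCQ (hall y)
      have h1 : Nat.card ↥((P : Subgroup G).map π) ≤ 2 :=
        (Nat.le_of_dvd Nat.card_pos (card_dvd_of_le (htop.trans hQ2))).trans
          ((Nat.le_of_dvd Nat.card_pos (card_map_dvd _ _)).trans (by
            rw [Nat.card_zpowers]
            refine Nat.le_of_dvd two_pos (orderOf_dvd_of_pow_eq_one ?_)
            rw [← Subgroup.coe_pow, ha2]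
            rfl))
      rw [← Nat.card_congr ψ.toEquiv, hcardP] at h1
      have : 0 < 2 ^ n := by positivity
      omega
    obtain ⟨x₀, hx₀, hx₀Q, hx₀o⟩ := hbig
    have hmem : ∀ x ∈ (P : Subgroup G), orderOf x = 4 → π x ∈ Q := fun x _ hx =>
      mem_comap.mp (hB.mem_of_orderOf_eq (N := Q.comap π) (mem_comap.mpr hx₀Q) (hx₀o.trans hx.symm))
    have hxa : ∀ i, π ((e.symm (QuaternionGroup.xa i) : ↥(P : Subgroup G)) : G) ∈ Q :=
      fun i => hmem _ (e.symm (QuaternionGroup.xa i)).2 (hfour i)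
    have hPQ : (P : Subgroup G).map π = Q := by
      refine le_antisymm ?_ hQP
      rintro _ ⟨x, hx, rfl⟩
      obtain ⟨q, rfl⟩ : ∃ q, ((e.symm q : ↥(P : Subgroup G)) : G) = x := ⟨e ⟨x, hx⟩, by rw [MulEquiv.symm_apply_apply]⟩
      rcases q with i | i
      · have hmul : (QuaternionGroup.a i : QuaternionGroup (2 ^ n)) =
            (QuaternionGroup.xa 0)⁻¹ * QuaternionGroup.xa i := by
          rw [eq_inv_mul_iff_mul_eq, QuaternionGroup.xa_mul_a, zero_add]
        rw [hmul, map_mul, Subgroup.coe_mul, map_mul, map_inv, Subgroup.coe_inv, map_inv]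
        exact mul_mem (inv_mem (hxa 0)) (hxa i)
      · exact hxa i
    haveI : ((P : Subgroup G).map π).Normal := hPQ ▸ inferInstance
    -- an element of order four in the cyclic part
    set m : ℕ := 2 ^ (n - 1)
    have hao : orderOf ((e.symm (QuaternionGroup.a (m : ZMod (2 * 2 ^ n))) : ↥(P : Subgroup G)) : G) = 4 := by
      rw [orderOf_coe, MulEquiv.orderOf_eq, ← QuaternionGroup.a_one_pow, orderOf_pow' _ (pow_ne_zero _ two_ne_zero),
        QuaternionGroup.orderOf_a_one, Nat.gcd_eq_right (Dvd.dvd.mul_left (pow_dvd_pow 2 (Nat.sub_le _ _)) _),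
        show 2 * 2 ^ n = 4 * 2 ^ (n - 1) by
          rw [show 4 * 2 ^ (n - 1) = 2 * 2 ^ (n - 1 + 1) by ring, show n - 1 + 1 = n by omega],
        Nat.mul_div_cancel _ (by positivity)]
    obtain ⟨g, k, hgk⟩ := hB.cyclic (x := ((e.symm (QuaternionGroup.a (m : ZMod (2 * 2 ^ n))) : ↥(P : Subgroup G)) : G))
      (y := ((e.symm (QuaternionGroup.xa 0) : ↥(P : Subgroup G)) : G)) (hao.trans (hfour 0).symm)
    let φ : MulAut ↥(P : Subgroup G) := (ψ.trans (MulAut.conjNormal (π g))).trans ψ.symm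
    have hkey : φ ((e.symm (QuaternionGroup.a (m : ZMod (2 * 2 ^ n)))) ^ k) = e.symm (QuaternionGroup.xa 0) := by
      apply ψ.injective
      show ψ (ψ.symm (MulAut.conjNormal (π g) (ψ _))) = _
      rw [MulEquiv.apply_symm_apply]
      refine Subtype.ext ?_
      rw [MulAut.conjNormal_apply]
      show π g * π (((e.symm (QuaternionGroup.a (m : ZMod (2 * 2 ^ n)))) ^ k : ↥(P : Subgroup G)) : G) * (π g)⁻¹ =
        π ((e.symm (QuaternionGroup.xa 0) : ↥(P : Subgroup G)) : G)
      rw [hgk, Subgroup.coe_zpow, map_mul, map_mul, map_inv]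
    obtain ⟨l, hl⟩ : ∃ l, (QuaternionGroup.a (m : ZMod (2 * 2 ^ n)) : QuaternionGroup (2 ^ n)) ^ k = QuaternionGroup.a l := by
      have hmem : (QuaternionGroup.a (m : ZMod (2 * 2 ^ n)) : QuaternionGroup (2 ^ n)) ^ k ∈
          zpowers (QuaternionGroup.a 1 : QuaternionGroup (2 ^ n)) := by
        rw [← QuaternionGroup.a_one_pow]
        exact zpow_mem (pow_mem (mem_zpowers _) _) k
      obtain ⟨i, hi⟩ := mem_powers_iff_mem_zpowers.mpr hmem
      exact ⟨(i : ZMod (2 * 2 ^ n)), by rw [← hi]; exact QuaternionGroup.a_one_pow i⟩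
    refine quaternion_not_fused hn e φ l 0 ?_
    rw [← hl, map_zpow, hkey, MulEquiv.apply_symm_apply]

end Cfsg.Lib.BGroups
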