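import Cfsg.Agent.BGroups.Quotient

/-!
A quaternion group fused by the ambient group and stabilising all lines of an elementary abelian normal
subgroup centralises it.
-/

set_option linter.style.haveILetI false
set_option linter.unusedSectionVars false

namespace Cfsg.Lib.BGroups

open Subgroup
open Cfsg.Lib.Coprime (conjMap)

universe u

variable {G : Type u} [Group G] [Finite G] {p : ℕ} [hp : Fact p.Prime]

theorem mem_of_zpow_mem {a b : G} (ha : orderOf a = p) {i : ℤ} (hi : a ^ i ∈ zpowers b) (hne : a ^ i ≠ 1) :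
    a ∈ zpowers b := by
  have hle : zpowers (a ^ i) ≤ zpowers a := zpowers_le.mpr (zpow_mem (mem_zpowers a) i)
  have ho : orderOf (a ^ i) = p := by
    refine orderOf_eq_prime ?_ hne
    rw [← zpow_natCast, ← zpow_mul, mul_comm, zpow_mul, zpow_natCast, ← ha, pow_orderOf_eq_one, one_zpow]
  have he : zpowers (a ^ i) = zpowers a :=
    eq_of_le_of_card_ge hle (le_of_eq (by rw [Nat.card_zpowers, Nat.card_zpowers, ha, ho]))
  exact (zpowers_le.mpr hi) (he.ge (mem_zpowers a))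

/-- a linear map fixing all lines is scalar -/
theorem exists_scalar (P : Subgroup G) (hexp : ∀ x ∈ P, x ^ p = 1) (hc : ∀ a ∈ P, ∀ b ∈ P, a * b = b * a) (q : G)
    (hl : ∀ v ∈ P, ∃ k : ℤ, q * v * q⁻¹ = v ^ k) : ∃ k : ℤ, ∀ v ∈ P, q * v * q⁻¹ = v ^ k := by
  by_cases hP : ∀ v ∈ P, v = 1
  · exact ⟨1, fun v hv => by rw [hP v hv]; simp⟩
  push Not at hP
  obtain ⟨v₀, hv₀, hv₀1⟩ := hP
  obtain ⟨k, hk⟩ := hl v₀ hv₀
  refine ⟨k, fun v hv => ?_⟩
  by_cases hmem : v ∈ zpowers v₀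
  · obtain ⟨i, rfl⟩ := mem_zpowers_iff.mp hmem
    rw [← conj_zpow, hk, ← zpow_mul, ← zpow_mul, mul_comm]
  obtain ⟨m, hm⟩ := hl v hv
  obtain ⟨l, hl⟩ := hl (v₀ * v) (mul_mem hv₀ hv)
  have hsplit : q * (v₀ * v) * q⁻¹ = (q * v₀ * q⁻¹) * (q * v * q⁻¹) := by group
  rw [hsplit, hk, hm, (show Commute v₀ v from hc v₀ hv₀ v hv).mul_zpow] at hl
  have he : v₀ ^ (k - l) = v ^ (l - m) := by
    have h1 : v₀ ^ k = v₀ ^ l * v ^ l * (v ^ m)⁻¹ := eq_mul_inv_iff_mul_eq.mpr hl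
    have hcm : Commute (v₀ ^ l) (v ^ (l - m)) := (show Commute v₀ v from hc v₀ hv₀ v hv).zpow_zpow _ _
    rw [zpow_sub, h1, mul_assoc (v₀ ^ l), ← zpow_sub, hcm.eq, mul_inv_cancel_right]
  have hvp : orderOf v = p := orderOf_eq_prime (hexp v hv) (fun h => hmem (h ▸ one_mem _))
  have hlm : v ^ (l - m) = 1 := by
    by_contra hne
    exact hmem (mem_of_zpow_mem hvp (he ▸ zpow_mem (mem_zpowers v₀) _) hne)
  have hkl : (p : ℤ) ∣ k - l := by
    rw [← orderOf_eq_prime (hexp v₀ hv₀) hv₀1, orderOf_dvd_iff_zpow_eq_one, he, hlm]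
  have hlm' : (p : ℤ) ∣ l - m := by rwa [← hvp, orderOf_dvd_iff_zpow_eq_one]
  have hkm : v ^ (k - m) = 1 := by
    rw [← orderOf_dvd_iff_zpow_eq_one, hvp]
    simpa using dvd_add hkl hlm'
  rw [zpow_sub, mul_inv_eq_one] at hkm
  rw [hm, hkm]

/-- enlarging a subgroup while avoiding an element -/
theorem exists_avoiding (P : Subgroup G) (hexp : ∀ x ∈ P, x ^ p = 1) (hc : ∀ a ∈ P, ∀ b ∈ P, a * b = b * a)
    {v w : G} (hv : v ∈ P) (hw : w ∈ P) (hvw : w ∉ zpowers v) (hv1 : v ≠ 1) :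
    ∀ k, 1 ≤ k → p ^ k < Nat.card ↥P → ∃ D, D ≤ P ∧ v ∈ D ∧ w ∉ D ∧ Nat.card ↥D = p ^ k := by
  intro k hk
  induction k, hk using Nat.le_induction with
  | base =>
    intro _
    exact ⟨zpowers v, zpowers_le.mpr hv, mem_zpowers v, hvw, by
      rw [Nat.card_zpowers, orderOf_eq_prime (hexp v hv) hv1, pow_one]⟩
  | succ k hk ih =>
    intro hlt
    obtain ⟨D, hDP, hvD, hwD, hDc⟩ := ih (lt_of_le_of_lt (Nat.pow_le_pow_right hp.out.pos (Nat.le_succ k)) hlt)
    have hstep : ∀ u ∈ P, u ∉ D → Nat.card ↥(D ⊔ zpowers u) = p ^ (k + 1) := by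
      intro u hu huD
      have hn : zpowers u ≤ normalizer (D : Set G) :=
        (zpowers_le.mpr (mem_centralizer_iff.mpr fun d hd => hc d (hDP hd) u hu)).trans (centralizer_le_normalizer _)
      have huo : orderOf u = p := orderOf_eq_prime (hexp u hu) (fun h => huD (h ▸ one_mem D))
      rw [Cfsg.Lib.Coprime.card_sup_of_inf_eq_bot hn ?_, hDc, Nat.card_zpowers, huo, pow_succ]
      rw [eq_bot_iff]
      intro z hz
      obtain ⟨i, rfl⟩ := mem_zpowers_iff.mp hz.2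
      by_contra hne
      exact huD (by
        have he : zpowers (u ^ i) = zpowers u := eq_of_le_of_card_ge (zpowers_le.mpr hz.2) (le_of_eq (by
          rw [Nat.card_zpowers, Nat.card_zpowers, huo]
          refine (orderOf_eq_prime ?_ fun h => hne (mem_bot.mpr h)).symm
          exact hexp _ (zpow_mem hu i)))
        exact (zpowers_le.mpr hz.1) (he.ge (mem_zpowers u)))
    obtain ⟨u, hu, huD⟩ : ∃ u ∈ P, u ∉ D ⊔ zpowers w := by
      by_contra hcon
      push Not at hcon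
      have h1 := card_le_of_le (show P ≤ D ⊔ zpowers w from hcon)
      rw [hstep w hw hwD] at h1
      omega
    refine ⟨D ⊔ zpowers u, sup_le hDP (zpowers_le.mpr hu), le_sup_left (a := D) hvD, fun h => huD ?_,
      hstep u hu fun h => huD (le_sup_left (a := D) h)⟩
    rw [eq_of_le_of_card_ge (sup_le le_sup_left (zpowers_le.mpr h) : D ⊔ zpowers w ≤ D ⊔ zpowers u)
      (le_of_eq ((hstep u hu fun h => huD (le_sup_left (a := D) h)).trans (hstep w hw hwD).symm))]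
    exact le_sup_right (a := D) (mem_zpowers u)

theorem le_centralizer_of_lines (P Q : Subgroup G) [P.Normal] (hexp : ∀ x ∈ P, x ^ p = 1)
    (hc : ∀ a ∈ P, ∀ b ∈ P, a * b = b * a) (e : ↥Q ≃* QuaternionGroup 2)
    (hl : ∀ q ∈ Q, ∀ v ∈ P, ∃ k : ℤ, q * v * q⁻¹ = v ^ k)
    (hf : ∀ x ∈ Q, ∀ y ∈ Q, orderOf x = 4 → orderOf y = 4 → ∃ (g : G) (k : ℤ), y = g * x ^ k * g⁻¹) :
    Q ≤ centralizer (P : Set G) := by
  set C := centralizer (P : Set G)
  refine quat_gen' e C ?_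
  by_contra hcon
  push Not at hcon
  obtain ⟨x, hx, hxo, hxC⟩ := hcon
  -- then no element of order four centralises `P`
  have hnone : ∀ y ∈ Q, orderOf y = 4 → y ∉ C := by
    intro y hy hyo hyC
    obtain ⟨g, k, rfl⟩ := hf y hy x hx hyo hxo
    exact hxC ((inferInstance : C.Normal).conj_mem _ (zpow_mem hyC k) g)
  have hsq : ∀ z ∈ Q, orderOf z = 4 → ∀ k : ℤ, (∀ v ∈ P, z * v * z⁻¹ = v ^ k) → ∀ v ∈ P, v ^ (k * k) = v := by
    intro z hz hzo k hk v hv
    obtain ⟨y, hyo, hyz, -⟩ := quat_partner e (x := (⟨z, hz⟩ : ↥Q)) (by rwa [orderOf_mk])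
    obtain ⟨l, hl'⟩ := exists_scalar P hexp hc y (hl y y.2)
    have hyz' : (y : G) * z * (y : G)⁻¹ = z⁻¹ := congrArg Subtype.val hyz
    set w := (y : G)⁻¹ * v * y with hw
    have hwP : w ∈ P := by
      simpa [hw] using (inferInstance : P.Normal).conj_mem v hv (y : G)⁻¹
    have hzinv : z⁻¹ * v * z = v ^ k := by
      have h1 : z⁻¹ * v * z = (y : G) * (z * w * z⁻¹) * (y : G)⁻¹ := by
        rw [show (y : G) * (z * w * z⁻¹) * (y : G)⁻¹ = ((y : G) * z * (y : G)⁻¹) * ((y : G) * w * (y : G)⁻¹) *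
          ((y : G) * z * (y : G)⁻¹)⁻¹ by group, hyz', inv_inv, hw]
        group
      rw [h1, hk w hwP, ← conj_zpow, hw]
      congr 1
      group
    have h2 : z * (v ^ k) * z⁻¹ = v := by rw [← hzinv]; group
    rw [hk _ (zpow_mem hv k), ← zpow_mul] at h2
    exact h2
  obtain ⟨v, hv, hv1⟩ : ∃ v ∈ P, v ≠ 1 := by
    by_contra hP
    push Not at hP
    exact hxC (mem_centralizer_iff.mpr fun v hv => by rw [hP v hv]; simp)
  have hvo : orderOf v = p := orderOf_eq_prime (hexp v hv) hv1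
  have hmod : ∀ {a b : ℤ}, (a : ZMod p) = b → ∀ u ∈ P, u ^ a = u ^ b := by
    intro a b hab u hu
    have hd : (p : ℤ) ∣ a - b := by
      rw [← ZMod.intCast_zmod_eq_zero_iff_dvd, Int.cast_sub, hab, sub_self]
    obtain ⟨c, hc'⟩ := hd
    rw [show a = b + p * c by omega, zpow_add, zpow_mul, zpow_natCast, hexp u hu, one_zpow, mul_one]
  have hneg : ∀ z ∈ Q, orderOf z = 4 → ∀ k : ℤ, (∀ u ∈ P, z * u * z⁻¹ = u ^ k) → (k : ZMod p) = -1 := by
    intro z hz hzo k hk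
    have h1 : ((k * k : ℤ) : ZMod p) = 1 := by
      have h := hsq z hz hzo k hk v hv
      conv_rhs at h => rw [← zpow_one v]
      rw [← mul_inv_eq_one, ← zpow_sub, ← orderOf_dvd_iff_zpow_eq_one, hvo, ← ZMod.intCast_zmod_eq_zero_iff_dvd,
        Int.cast_sub, Int.cast_one, sub_eq_zero] at h
      exact h
    rw [Int.cast_mul] at h1
    rcases mul_self_eq_one_iff.mp h1 with h | h
    · refine absurd (mem_centralizer_iff.mpr fun u hu => ?_) (hnone z hz hzo)
      have := hk u hu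
      rw [hmod (b := 1) (by rw [h, Int.cast_one]) u hu, zpow_one] at this
      exact (mul_inv_eq_iff_eq_mul.mp this).symm
    · exact h
  obtain ⟨y, hyo, -, hxyo⟩ := quat_partner e (x := (⟨x, hx⟩ : ↥Q)) (by rwa [orderOf_mk])
  rw [← orderOf_coe] at hyo hxyo
  obtain ⟨k, hk⟩ := exists_scalar P hexp hc x (hl x hx)
  obtain ⟨l, hl'⟩ := exists_scalar P hexp hc y (hl y y.2)
  refine hnone (x * y) (mul_mem hx y.2) hxyo (mem_centralizer_iff.mpr fun u hu => ?_)
  have h1 : x * (y : G) * u * (x * (y : G))⁻¹ = x * ((y : G) * u * (y : G)⁻¹) * x⁻¹ := by group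
  rw [hl' u hu, hk _ (zpow_mem hu l), ← zpow_mul] at h1
  rw [hmod (b := 1) (by rw [Int.cast_mul, hneg y y.2 hyo l hl', hneg x hx hxo k hk]; norm_num) u hu, zpow_one] at h1
  exact (mul_inv_eq_iff_eq_mul.mp h1).symm

end Cfsg.Lib.BGroups
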