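import Cfsg.Agent.BGroups.Normal
import Cfsg.Agent.BGroups.Lines

/-!
Solvable groups in which abelian subgroups of equal order are conjugate have all subgroups of equal order
conjugate.
-/

set_option linter.style.haveILetI false
set_option linter.unusedSectionVars false

namespace Cfsg.Lib.BGroups

open Subgroup Cfsg.Lib.Components
open Cfsg.Lib.Coprime (conjMap)

universe u

variable {G : Type u} [Group G] [Finite G]

/-- the primes with a noncyclic elementary abelian Sylow subgroup -/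
def Bad (G : Type u) [Group G] (p : ℕ) : Prop :=
  ∃ (_ : Fact p.Prime) (P : Sylow p G), (∀ x ∈ (P : Subgroup G), x ^ p = 1) ∧
    IsMulCommutative ↥(P : Subgroup G) ∧ ¬ IsCyclic ↥(P : Subgroup G)

theorem mem_of_normal_sylow {p : ℕ} [Fact p.Prime] {P : Sylow p G} (hP : (P : Subgroup G).Normal) {W : Subgroup G}
    (hW : IsPGroup p ↥W) : W ≤ (P : Subgroup G) := by
  have h := P.is_maximal' (hW.to_sup_of_normal_right P.2) le_sup_right
  exact le_sup_left.trans h.le

theorem sylow_eq_of_normal {p : ℕ} [Fact p.Prime] {P : Sylow p G} (hP : (P : Subgroup G).Normal) (S : Sylow p G) :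
    S = P :=
  Sylow.ext (S.is_maximal' P.2 (mem_of_normal_sylow hP S.2)).symm

/-- the abelian normal Hall subgroup made of the noncyclic elementary Sylow subgroups -/
structure Kernel (E : Subgroup G) : Prop where
  normal : E.Normal
  comm : ∀ a ∈ E, ∀ b ∈ E, a * b = b * a
  hall : (Nat.card ↥E).Coprime E.index
  bad : ∀ p, p.Prime → p ∣ Nat.card ↥E → Bad G p
  le : ∀ (p : ℕ) [Fact p.Prime] (P : Sylow p G), Bad G p → (P : Subgroup G) ≤ E

theorem exists_kernel [Group.IsSolvable G] (hB : AbConj G) : ∃ E : Subgroup G, Kernel E := by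
  classical
  set S : Set G := {x | ∃ (p : ℕ) (_ : Fact p.Prime) (P : Sylow p G), Bad G p ∧ x ∈ (P : Subgroup G)} with hS
  have hnormal : ∀ (p : ℕ) [Fact p.Prime] (P : Sylow p G), Bad G p →
      (P : Subgroup G).Normal ∧ (∀ x ∈ (P : Subgroup G), x ^ p = 1) ∧ IsMulCommutative ↥(P : Subgroup G) := by
    intro p _ P hb
    obtain ⟨hp, Q, h1, h2, h3⟩ := hb
    have hQ : (Q : Subgroup G).Normal := (⟨hB, h1, h2, h3⟩ : Elem Q).normal
    rw [sylow_eq_of_normal hQ P]
    exact ⟨hQ, h1, h2⟩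
  have hcommS : ∀ a ∈ S, ∀ b ∈ S, a * b = b * a := by
    rintro a ⟨p, _, P, hp, ha⟩ b ⟨q, _, Q, hq, hb⟩
    obtain ⟨hPn, -, hPc⟩ := hnormal p P hp
    obtain ⟨hQn, -, -⟩ := hnormal q Q hq
    by_cases hpq : p = q
    · subst hpq
      have hb' : b ∈ (P : Subgroup G) := by rw [← sylow_eq_of_normal hPn Q]; exact hb
      exact congrArg Subtype.val (hPc.is_comm.comm (⟨a, ha⟩ : ↥(P : Subgroup G)) ⟨b, hb'⟩)
    · exact commute_of_normal_of_disjoint _ _ hPn hQn
        (disjoint_iff.mpr (Cfsg.Lib.Coprime.inf_eq_bot_of_coprime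
          (by
            obtain ⟨i, hi⟩ := IsPGroup.iff_card.mp P.2
            obtain ⟨j, hj⟩ := IsPGroup.iff_card.mp Q.2
            rw [hi, hj]
            exact ((Nat.coprime_primes Fact.out Fact.out).mpr hpq).pow i j))) a b ha hb
  have hcomm : ∀ a ∈ closure S, ∀ b ∈ closure S, a * b = b * a := by
    have h1 : closure S ≤ centralizer (closure S : Set G) := by
      rw [closure_le]
      intro a ha
      refine mem_centralizer_iff.mpr fun b hb => ?_
      induction hb using closure_induction with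
      | mem y hy => exact hcommS y hy a ha
      | one => simp
      | mul c d _ _ hc hd => exact ((show Commute c a from hc).mul_left hd).eq
      | inv c _ hc => exact ((show Commute c a from hc).inv_left).eq
    exact fun a ha b hb => (mem_centralizer_iff.mp (h1 ha) b hb).symm
  have key : ∀ x ∈ closure S, ∀ q, q.Prime → q ∣ orderOf x → Bad G q := by
    intro x hx
    induction hx using closure_induction with
    | mem z hz =>
      intro q hq hqz
      obtain ⟨p, _, P, hp, hz⟩ := hz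
      obtain ⟨k, hk⟩ := IsPGroup.iff_orderOf.mp P.2 ⟨z, hz⟩
      rw [orderOf_mk] at hk
      rw [hk] at hqz
      rwa [(Nat.prime_dvd_prime_iff_eq hq Fact.out).mp (hq.dvd_of_dvd_pow hqz)]
    | one =>
      intro q hq h
      rw [orderOf_one, Nat.dvd_one] at h
      exact absurd h hq.ne_one
    | mul a b ha' hb' ha hb =>
      intro q hq h
      have hab : Commute a b := hcomm a ha' b hb'
      rcases (Nat.Prime.dvd_mul hq).mp ((h.trans hab.orderOf_mul_dvd_lcm).trans (Nat.lcm_dvd_mul _ _)) with h | h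
      · exact ha q hq h
      · exact hb q hq h
    | inv a _ ha =>
      intro q hq h
      exact ha q hq (by rwa [orderOf_inv] at h)
  have hbad : ∀ r, r.Prime → r ∣ Nat.card ↥(closure S) → Bad G r := by
    intro r hr hrE
    haveI := Fact.mk hr
    obtain ⟨y, hy⟩ := exists_prime_orderOf_dvd_card' r hrE
    exact key y y.2 r hr (by rw [orderOf_coe, hy])
  refine ⟨closure S, ?_, hcomm, ?_, hbad, fun p _ P hb => fun x hx => subset_closure ⟨p, ‹_›, P, hb, hx⟩⟩
  · refine ⟨fun x hx g => ?_⟩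
    induction hx using closure_induction with
    | mem y hy =>
      obtain ⟨p, _, P, hp, hy⟩ := hy
      exact subset_closure ⟨p, ‹_›, P, hp, (hnormal p P hp).1.conj_mem y hy g⟩
    | one => simp
    | mul a b _ _ ha hb =>
      rw [← conj_mul]
      exact mul_mem ha hb
    | inv a _ ha =>
      rw [← conj_inv]
      exact inv_mem ha
  · refine Nat.coprime_of_dvd fun r hr hrE hri => ?_
    have hb := hbad r hr hrE
    obtain ⟨_, P, -⟩ := id hb
    exact P.not_dvd_index (hri.trans (index_dvd_of_le fun x hx => subset_closure ⟨r, ‹_›, P, hb, hx⟩))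

/-- a complement and what it inherits -/
theorem conj_of_mem {E T : Subgroup G} [E.Normal] (hET : E ⊓ T = ⊥) {e t a c : G} (he : e ∈ E) (ha : t * a * t⁻¹ ∈ T)
    (hc : c ∈ T) (h : e * t * a * (e * t)⁻¹ = c) : t * a * t⁻¹ = c := by
  have h1 : (t * a * t⁻¹)⁻¹ * c = ((t * a * t⁻¹)⁻¹ * e * (t * a * t⁻¹)) * e⁻¹ := by rw [← h]; group
  have h2 : (t * a * t⁻¹)⁻¹ * c ∈ E ⊓ T := by
    refine Subgroup.mem_inf.mpr ⟨?_, mul_mem (inv_mem ha) hc⟩
    rw [h1]
    exact mul_mem ((inferInstance : E.Normal).conj_mem' e he _) (inv_mem he)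
  rw [hET, mem_bot] at h2
  exact inv_mul_eq_one.mp h2

theorem exists_split {E T : Subgroup G} [E.Normal] (hsup : E ⊔ T = ⊤) (g : G) : ∃ e ∈ E, ∃ t ∈ T, g = e * t := by
  obtain ⟨e, he, t, ht, h⟩ := (Cfsg.Lib.Coprime.mem_sup_of_le_normalizer
    (by rw [normalizer_eq_top]; exact le_top)).mp (hsup.ge (mem_top g))
  exact ⟨e, he, t, ht, h.symm⟩

theorem abConj_complement (hB : AbConj G) {E T : Subgroup G} [E.Normal] (hsup : E ⊔ T = ⊤) (hET : E ⊓ T = ⊥)
    {A B : Subgroup G} (hA : A ≤ T) (hBT : B ≤ T) (hAc : IsMulCommutative ↥A) (hBc : IsMulCommutative ↥B)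
    (h : Nat.card ↥A = Nat.card ↥B) : ∃ t ∈ T, B = conjMap t A := by
  obtain ⟨g, hg⟩ := hB A B hAc hBc h
  obtain ⟨e, he, t, ht, rfl⟩ := exists_split hsup g
  refine ⟨t, ht, (eq_of_le_of_card_ge ?_ (by rw [Cfsg.Lib.Coprime.card_conjMap, h])).symm⟩
  intro c hc
  obtain ⟨a, ha, rfl⟩ := hc
  have hmem : e * t * a * (e * t)⁻¹ ∈ B := hg ▸ ⟨a, ha, rfl⟩
  show t * a * t⁻¹ ∈ B
  rwa [conj_of_mem hET he (mul_mem (mul_mem ht (hA ha)) (inv_mem ht)) (hBT hmem) rfl]

/-- in the complement the quaternion Sylow subgroup is normal -/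
theorem quaternion_normal {X : Type u} [Group X] [Finite X] [Group.IsSolvable X] (hZ : ZQ X) (hF : Fused X)
    (Q : Subgroup X) (e : ↥Q ≃* QuaternionGroup 2) :
    Q.Normal ∧ ∀ x : X, orderOf x = 4 → x ∈ Q := by
  haveI : Fact (Nat.Prime 2) := ⟨Nat.prime_two⟩
  have hQ2 : IsPGroup 2 ↥Q := IsPGroup.of_card (n := 3) (by rw [card_eight e]; norm_num)
  have hab : Q ≤ commutator X := by
    refine quat_gen' e _ fun x hx hxo => ?_
    obtain ⟨y, hyo, hyx, hxyo⟩ := quat_partner e (x := (⟨x, hx⟩ : ↥Q)) (by rwa [orderOf_mk])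
    rw [← orderOf_coe] at hyo hxyo
    have hyx' : (y : X) * x * (y : X)⁻¹ = x⁻¹ := congrArg Subtype.val hyx
    rw [← Abelianization.ker_of, MonoidHom.mem_ker]
    set f : X →* Abelianization X := Abelianization.of
    have hinv : f x = (f x)⁻¹ := by
      have := congrArg f hyx'
      rwa [map_mul, map_mul, map_inv, map_inv, mul_comm (f y) (f x), mul_inv_cancel_right] at this
    have hpow : ∀ z w : X, orderOf z = 4 → orderOf w = 4 → ∃ k : ℤ, f w = f z ^ k := by
      intro z w hz hw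
      obtain ⟨g, k, rfl⟩ := hF z w hz hw
      exact ⟨k, by rw [map_mul, map_mul, map_inv, map_zpow, mul_comm (f g), mul_inv_cancel_right]⟩
    have hsq : f x * f x = 1 := by
      nth_rw 2 [hinv]
      rw [mul_inv_cancel]
    have htwo : ∀ k : ℤ, f x ^ k = 1 ∨ f x ^ k = f x := by
      intro k
      rcases Int.even_or_odd' k with ⟨m, rfl | rfl⟩
      · exact Or.inl (by rw [zpow_mul, zpow_two, hsq, one_zpow])
      · exact Or.inr (by rw [zpow_add_one, zpow_mul, zpow_two, hsq, one_zpow, one_mul])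
    by_contra hne
    obtain ⟨k, hk⟩ := hpow x y hxo hyo
    obtain ⟨m, hm⟩ := hpow y x hyo hxo
    obtain ⟨n, hn⟩ := hpow (x * y) x hxyo hxo
    rcases htwo k with h | h
    · exact hne (by rw [hm, hk, h, one_zpow])
    · exact hne (by rw [hn, map_mul, hk, h, hsq, one_zpow])
  have hcent : ∀ (V : Subgroup X) [V.Normal], IsCyclic ↥V → Q ≤ centralizer (V : Set X) := by
    intro V _ hV x hx
    letI : CommGroup (MulAut ↥V) :=
      { (inferInstance : Group (MulAut ↥V)) with mul_comm := @mulAut_comm_of_cyclic _ _ hV }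
    have h1 : (MulAut.conjNormal x : MulAut ↥V) = 1 :=
      MonoidHom.mem_ker.mp (Abelianization.commutator_subset_ker (MulAut.conjNormal (H := V)) (hab hx))
    refine mem_centralizer_iff.mpr fun v hv => ?_
    have := congrArg (fun φ : MulAut ↥V => ((φ ⟨v, hv⟩ : ↥V) : X)) h1
    simp only [MulAut.conjNormal_apply, MulAut.one_apply] at this
    exact (mul_inv_eq_iff_eq_mul.mp this).symm
  set P := pCore 2 X
  rcases hZ 2 P (isPGroup_pCore 2) with hc | ⟨-, ⟨f⟩⟩
  · exfalso
    have h1 : Q ≤ centralizer (fittingSubgroup X : Set X) := by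
      rw [le_centralizer_iff, fitting_eq_iSup_pCore]
      refine iSup_le fun q => le_centralizer_iff.mp (hcent _ ?_)
      haveI := Fact.mk q.2
      rcases hZ q.1 (pCore q.1 X) (isPGroup_pCore q.1) with h | ⟨h, -⟩
      · exact h
      · rw [h]; exact hc
    have hQF : Q ≤ fittingSubgroup X := h1.trans Cfsg.Lib.Coprime.centralizer_fitting_le
    obtain ⟨x, hx⟩ := quat_exists_four e
    obtain ⟨y, -, hyx, -⟩ := quat_partner e hx
    have hcomm : (x : X) * y = y * x := mem_centralizer_iff.mp (h1 y.2) x (hQF x.2)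
    have h2 : (x : X) * x = 1 := by
      have := congrArg Subtype.val hyx
      simp only [Subgroup.coe_mul, Subgroup.coe_inv] at this
      rw [← hcomm, mul_inv_cancel_right] at this
      nth_rw 2 [this]
      rw [mul_inv_cancel]
    exact sq_ne_one_of_four hx (Subtype.ext h2)
  · have hmax : ∀ W : Subgroup X, IsPGroup 2 ↥W → W ≤ P := by
      intro W hW
      rcases hZ 2 _ (hW.to_sup_of_normal_right (isPGroup_pCore (G := X) 2)) with hc | ⟨-, ⟨f'⟩⟩
      · exfalso
        haveI : IsCyclic ↥P := isCyclic_of_injective (inclusion (le_sup_right : P ≤ W ⊔ P)) (inclusion_injective _)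
        haveI : IsCyclic (QuaternionGroup 2) := f.isCyclic.mp inferInstance
        exact absurd (IsCyclic.exponent_eq_card (α := QuaternionGroup 2)) (by
          rw [QuaternionGroup.exponent, Nat.card_eq_fintype_card, QuaternionGroup.card]; decide)
      · exact le_sup_left.trans (eq_of_le_of_card_ge le_sup_right (by rw [card_eight f, card_eight f'])).ge
    have hQP : Q = P := eq_of_le_of_card_ge (hmax Q hQ2) (by rw [card_eight e, card_eight f])
    refine ⟨hQP ▸ inferInstance, fun x hx => ?_⟩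
    rw [hQP]
    exact hmax (zpowers x) (IsPGroup.of_card (n := 2) (by rw [Nat.card_zpowers, hx]; norm_num)) (mem_zpowers x)

theorem le_of_prime_power {A S : Subgroup G}
    (h : ∀ a ∈ A, ∀ p k : ℕ, p.Prime → orderOf a = p ^ k → a ∈ S) : A ≤ S := by
  suffices ∀ n, ∀ a ∈ A, orderOf a = n → a ∈ S from fun a ha => this _ a ha rfl
  intro n
  induction n using Nat.recOnPrimeCoprime with
  | zero => intro a _ ha; exact absurd ha (orderOf_pos a).ne'
  | prime_pow p k hp => intro a ha ho; exact h a ha p k hp ho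
  | coprime m n hm hn hmn ihm ihn =>
    intro a ha ho
    have h1 : a ^ n ∈ S := ihm _ (pow_mem ha n) (by
      rw [orderOf_pow' a (by omega), ho, Nat.gcd_eq_right (dvd_mul_left n m), Nat.mul_div_cancel _ (by omega)])
    have h2 : a ^ m ∈ S := ihn _ (pow_mem ha m) (by
      rw [orderOf_pow' a (by omega), ho, Nat.gcd_eq_right (dvd_mul_right m n), Nat.mul_div_cancel_left _ (by omega)])
    have hg : ((m.gcd n : ℕ) : ℤ) = m * m.gcdA n + n * m.gcdB n := Nat.gcd_eq_gcd_ab m n
    rw [hmn.gcd_eq_one, Nat.cast_one] at hg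
    rw [← zpow_one a, hg, zpow_add, zpow_mul, zpow_mul, zpow_natCast, zpow_natCast]
    exact mul_mem (zpow_mem h2 _) (zpow_mem h1 _)

theorem allConj_of_abConj [Group.IsSolvable G] (hB : AbConj G) : AllConj G := by
  classical
  haveI : Fact (Nat.Prime 2) := ⟨Nat.prime_two⟩
  obtain ⟨E, hE⟩ := exists_kernel hB
  haveI := hE.normal
  obtain ⟨T, hT⟩ := exists_right_complement'_of_coprime (N := E) hE.hall
  have hsup : E ⊔ T = ⊤ := hT.sup_eq_top
  have hET : E ⊓ T = ⊥ := disjoint_iff.mp hT.disjoint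
  have hTc : (Nat.card ↥E).Coprime (Nat.card ↥T) := hT.symm.index_eq_card ▸ hE.hall
  have hEc : ∀ a ∈ E, ∀ b ∈ E, a * b = b * a := hE.comm
  have hEle : ∀ A : Subgroup G, A ≤ E → E ≤ centralizer (A : Set G) := fun A hA x hx =>
    mem_centralizer_iff.mpr fun a ha => hEc a (hA ha) x hx
  -- `p`-subgroups of the complement
  have hZT : ∀ (p : ℕ) [Fact p.Prime] (W : Subgroup G), W ≤ T → IsPGroup p ↥W →
      IsCyclic ↥W ∨ (p = 2 ∧ Nonempty (↥W ≃* QuaternionGroup 2)) := by
    intro p _ W hWT hW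
    obtain ⟨S, hS⟩ := hW.exists_le_sylow
    have hbot : Bad G p → IsCyclic ↥W := fun hb => by
      have : W = ⊥ := le_bot_iff.mp (hET ▸ le_inf (hS.trans (hE.le p S hb)) hWT)
      rw [this]; infer_instance
    rcases sylow_cases hB S with ⟨h1, h2⟩ | hc | ⟨hp2, ⟨e⟩⟩
    · by_cases hc : IsCyclic ↥(S : Subgroup G)
      · exact Or.inl (isCyclic_of_injective (inclusion hS) (inclusion_injective _))
      · exact Or.inl (hbot ⟨‹_›, S, h1, h2, hc⟩)
    · exact Or.inl (isCyclic_of_injective (inclusion hS) (inclusion_injective _))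
    · rcases quat_image e (S : Subgroup G).subtype (W := W) (by rw [range_subtype]; exact hS) with h | h | ⟨h1, -⟩
      · exact Or.inl h
      · exact Or.inr ⟨hp2, h⟩
      · left
        have hle : W ≤ zpowers ((e.symm (QuaternionGroup.a 2) : ↥(S : Subgroup G)) : G) := by
          intro w hw
          rcases quat_elements e ⟨w, hS hw⟩ (Subtype.ext (by
            show w * w = 1; rw [← pow_two]; exact h1 w hw)) with hh | hh
          · rw [show w = 1 from congrArg Subtype.val hh]; exact one_mem _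
          · rw [show w = _ from congrArg Subtype.val hh]; exact mem_zpowers _
        exact isCyclic_of_injective (inclusion hle) (inclusion_injective _)
  have hfour : ∀ x ∈ T, ∀ y ∈ T, orderOf x = 4 → orderOf y = 4 → ∃ t ∈ T, ∃ k : ℤ, y = t * x ^ k * t⁻¹ := by
    intro x hx y hy hxo hyo
    obtain ⟨t, ht, h⟩ := abConj_complement hB hsup hET (zpowers_le.mpr hx) (zpowers_le.mpr hy) inferInstance
      inferInstance (by rw [Nat.card_zpowers, Nat.card_zpowers, hxo, hyo])
    obtain ⟨z, hz, hzy⟩ := (h.le (mem_zpowers y) : y ∈ conjMap t (zpowers x))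
    obtain ⟨k, rfl⟩ := mem_zpowers_iff.mp hz
    exact ⟨t, ht, k, hzy.symm⟩
  -- normalisers of subgroups of `E`
  have hmain : ∀ A : Subgroup G, A ≤ E → Fused ↥(T ⊓ normalizer (A : Set G)) := by
    intro A hA
    set TA := T ⊓ normalizer (A : Set G)
    by_cases hq : ∃ W : Subgroup G, W ≤ TA ∧ Nonempty (↥W ≃* QuaternionGroup 2)
    swap
    · refine fused_of_cyclic fun W hW => ?_
      let e := equivMapOfInjective W TA.subtype TA.subtype_injective
      rcases hZT 2 (W.map TA.subtype) ((map_subtype_le _).trans inf_le_left) (hW.of_equiv e) with hc | ⟨-, ⟨f⟩⟩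
      · exact e.isCyclic.mpr hc
      · exact absurd ⟨_, map_subtype_le _, ⟨f⟩⟩ hq
    obtain ⟨Q, hQA, ⟨e⟩⟩ := hq
    have hQT : Q ≤ T := hQA.trans inf_le_left
    have hQN : Q ≤ normalizer (A : Set G) := hQA.trans inf_le_right
    -- `Q` is normal in `T`
    have hFT : Fused ↥T := by
      intro x y hx hy
      obtain ⟨t, ht, k, hk⟩ := hfour x x.2 y y.2 (by rwa [orderOf_coe]) (by rwa [orderOf_coe])
      exact ⟨⟨t, ht⟩, k, Subtype.ext hk⟩
    obtain ⟨hQn, hQ4⟩ := quaternion_normal (zq_subgroup hZT) hFT (Q.subgroupOf T)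
      ((subgroupOfEquivOfLe hQT).trans e)
    have hQ4' : ∀ x ∈ T, orderOf x = 4 → x ∈ Q := fun x hx ho => hQ4 ⟨x, hx⟩ (by rwa [orderOf_mk])
    have hTQ : ∀ t ∈ T, ∀ q ∈ Q, t * q * t⁻¹ ∈ Q := fun t ht q hq =>
      hQn.conj_mem ⟨q, hQT hq⟩ hq ⟨t, ht⟩
    have hfQ : ∀ x ∈ Q, ∀ y ∈ Q, orderOf x = 4 → orderOf y = 4 → ∃ (g : G) (k : ℤ), y = g * x ^ k * g⁻¹ :=
      fun x hx y hy hxo hyo => by
        obtain ⟨t, -, k, hk⟩ := hfour x (hQT hx) y (hQT hy) hxo hyo
        exact ⟨t, k, hk⟩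
    intro x y hxo hyo
    rw [← orderOf_coe] at hxo hyo
    have hx : (x : G) ∈ Q := hQ4' x x.2.1 hxo
    have hy : (y : G) ∈ Q := hQ4' y y.2.1 hyo
    set U := A ⊓ centralizer (Q : Set G)
    have hU : U ≤ E := inf_le_left.trans hA
    -- a conjugating element fixing `U`
    have habel : ∀ z : G, z ∈ Q → IsMulCommutative ↥(U ⊔ zpowers z) := by
      intro z hz
      have hUz : U ≤ centralizer (zpowers z : Set G) := fun u hu => mem_centralizer_iff.mpr fun w hw =>
        mem_centralizer_iff.mp hu.2 w (zpowers_le.mpr hz hw)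
      have h1 : U ⊔ zpowers z ≤ centralizer ((U ⊔ zpowers z : Subgroup G) : Set G) := by
        refine sup_le (le_centralizer_iff.mp (sup_le (hU.trans (hEle U hU)) (le_centralizer_iff.mp hUz)))
          (le_centralizer_iff.mp (sup_le hUz (fun w hw => mem_centralizer_iff.mpr fun w' hw' => ?_)))
        obtain ⟨i, rfl⟩ := mem_zpowers_iff.mp hw
        obtain ⟨j, rfl⟩ := mem_zpowers_iff.mp hw'
        exact ((Commute.refl z).zpow_zpow j i).eq
      exact ⟨⟨fun a b => Subtype.ext (mem_centralizer_iff.mp (h1 b.2) a a.2)⟩⟩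
    have hnorm : ∀ z ∈ Q, zpowers z ≤ normalizer (U : Set G) := fun z hz =>
      (zpowers_le.mpr (mem_centralizer_iff.mpr fun u hu => (mem_centralizer_iff.mp hu.2 z hz).symm)).trans
        (centralizer_le_normalizer _)
    have hcardU : ∀ z ∈ Q, Nat.card ↥(U ⊔ zpowers z) = Nat.card ↥U * Nat.card ↥(zpowers z) := fun z hz =>
      Cfsg.Lib.Coprime.card_sup_coprime (hnorm z hz)
        ((hTc.coprime_dvd_left (card_dvd_of_le hU)).coprime_dvd_right (card_dvd_of_le (zpowers_le.mpr (hQT hz))))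
    have hinfE : ∀ z ∈ Q, (U ⊔ zpowers z) ⊓ E = U := fun z hz => by
      rw [Cfsg.Lib.Coprime.sup_inf_dedekind (hnorm z hz) hU,
        show zpowers z ⊓ E = ⊥ from le_bot_iff.mp ((inf_le_inf_right E (zpowers_le.mpr (hQT hz))).trans
          (inf_comm E T ▸ hET).le), sup_bot_eq]
    obtain ⟨g, hg⟩ := hB (U ⊔ zpowers (x : G)) (U ⊔ zpowers (y : G)) (habel _ hx) (habel _ hy)
      (by rw [hcardU _ hx, hcardU _ hy, Nat.card_zpowers, Nat.card_zpowers, hxo, hyo])
    obtain ⟨e', he', t, ht, rfl⟩ := exists_split hsup g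
    have htU : conjMap t U = U := by
      have h1 : conjMap (e' * t) U = U := by
        have h2 := congrArg (· ⊓ E) hg
        simp only [hinfE _ hy] at h2
        rw [show (U ⊔ zpowers (x : G)).map (MulAut.conj (e' * t)).toMonoidHom =
          conjMap (e' * t) (U ⊔ zpowers (x : G)) from rfl] at h2
        conv_rhs at h2 => rw [← Cfsg.Lib.Coprime.conjMap_eq_self (H := E) (g := e' * t) (by rw [normalizer_eq_top]; exact mem_top _),
          ← Cfsg.Lib.Coprime.conjMap_inf, hinfE _ hx]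
        exact h2.symm
      rw [← Cfsg.Lib.Coprime.conjMap_mul] at h1
      rwa [Cfsg.Lib.Coprime.conjMap_eq_self] at h1
      refine centralizer_le_normalizer _ (hEle _ ?_ he')
      rw [← Cfsg.Lib.Coprime.conjMap_eq_self (H := E) (g := t) (by rw [normalizer_eq_top]; exact mem_top _)]
      exact Cfsg.Lib.Coprime.conjMap_mono hU
    have htx : ∃ k : ℤ, (y : G) = t * (x : G) ^ k * t⁻¹ := by
      have hmem : e' * t * x * (e' * t)⁻¹ ∈ U ⊔ zpowers (y : G) :=
        hg ▸ ⟨(x : G), le_sup_right (a := U) (mem_zpowers _), rfl⟩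
      obtain ⟨u, hu, c, hc, huc⟩ := (Cfsg.Lib.Coprime.mem_sup_of_le_normalizer (hnorm _ hy)).mp hmem
      have htxT : t * (x : G) * t⁻¹ ∈ T := mul_mem (mul_mem ht x.2.1) (inv_mem ht)
      have h1 : t * (x : G) * t⁻¹ = c := by
        have h2 : (t * (x : G) * t⁻¹)⁻¹ * c =
            ((t * (x : G) * t⁻¹)⁻¹ * (u⁻¹ * e') * (t * (x : G) * t⁻¹)) * e'⁻¹ := by
          rw [show c = u⁻¹ * (e' * t * x * (e' * t)⁻¹) from eq_inv_mul_of_mul_eq huc]
          group
        have h3 : (t * (x : G) * t⁻¹)⁻¹ * c ∈ E ⊓ T := by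
          refine Subgroup.mem_inf.mpr ⟨?_, mul_mem (inv_mem htxT) (zpowers_le.mpr y.2.1 hc)⟩
          rw [h2]
          exact mul_mem ((inferInstance : E.Normal).conj_mem' _ (mul_mem (inv_mem (hU hu)) he') _) (inv_mem he')
        rw [hET, mem_bot] at h3
        exact inv_mul_eq_one.mp h3
      have h4 : zpowers (t * (x : G) * t⁻¹) = zpowers (y : G) := eq_of_le_of_card_ge (zpowers_le.mpr (h1 ▸ hc))
        (le_of_eq (by rw [Nat.card_zpowers, Nat.card_zpowers, hyo, ← MulAut.conj_apply, MulEquiv.orderOf_eq, hxo]))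
      obtain ⟨k, hk⟩ := mem_zpowers_iff.mp (h4.ge (mem_zpowers (y : G)))
      exact ⟨k, by rw [← hk, conj_zpow]⟩
    have htA : t ∈ normalizer (A : Set G) := by
      rw [← Cfsg.Lib.Coprime.conjMap_eq_self_iff]
      refine eq_of_le_of_card_ge (map_le_iff_le_comap.mpr (le_of_prime_power fun a ha p k hp hak => ?_))
        (le_of_eq (Cfsg.Lib.Coprime.card_conjMap t A).symm)
      show t * a * t⁻¹ ∈ A
      haveI := Fact.mk hp
      rcases Nat.eq_zero_or_pos k with rfl | hk0
      · rw [pow_zero, orderOf_eq_one_iff] at hak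
        simp [hak]
      have hb : Bad G p := hE.bad p hp ((hak ▸ dvd_pow_self p hk0.ne').trans
        (orderOf_mk a (hA ha) ▸ orderOf_dvd_natCard (⟨a, hA ha⟩ : ↥E)))
      obtain ⟨_, P, hexp, hPc, hncyc⟩ := id hb
      haveI hPn : (P : Subgroup G).Normal := (⟨hB, hexp, hPc, hncyc⟩ : Elem P).normal
      have haP : a ∈ (P : Subgroup G) :=
        mem_of_normal_sylow hPn (IsPGroup.of_card (n := k) (by rw [Nat.card_zpowers, hak])) (mem_zpowers a)
      by_cases hPA : (P : Subgroup G) ≤ A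
      · exact hPA (hPn.conj_mem a haP t)
      -- `Q` centralises `P`
      set A₀ := A ⊓ (P : Subgroup G)
      obtain ⟨j, hj⟩ := IsPGroup.iff_card.mp (P.2.to_le (inf_le_right : A₀ ≤ _))
      have hj1 : 1 ≤ j := by
        by_contra h0
        rw [show j = 0 by omega, pow_zero] at hj
        have : a ∈ (⊥ : Subgroup G) := eq_bot_of_card_eq _ hj ▸ (⟨ha, haP⟩ : a ∈ A₀)
        rw [mem_bot] at this
        rw [this, orderOf_one] at hak
        exact (Nat.one_lt_pow hk0.ne' hp.one_lt).ne hak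
      have hlt : p ^ j < Nat.card ↥(P : Subgroup G) := by
        rw [← hj]
        refine lt_of_le_of_ne (card_le_of_le inf_le_right) fun h => hPA ?_
        exact (eq_of_le_of_card_ge inf_le_right h.ge).ge.trans inf_le_left
      have hPc' : ∀ a ∈ (P : Subgroup G), ∀ b ∈ (P : Subgroup G), a * b = b * a := fun a ha b hb =>
        congrArg Subtype.val (hPc.is_comm.comm (⟨a, ha⟩ : ↥(P : Subgroup G)) ⟨b, hb⟩)
      have hQP : Q ≤ centralizer ((P : Subgroup G) : Set G) := by
        refine le_centralizer_of_lines _ Q hexp hPc' e (fun q hq v hv => ?_) hfQ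
        by_contra hcon
        push Not at hcon
        have hv1 : v ≠ 1 := fun h => hcon 1 (by rw [h]; simp)
        have hw : q * v * q⁻¹ ∉ zpowers v := fun h => by
          obtain ⟨i, hi⟩ := mem_zpowers_iff.mp h
          exact hcon i hi.symm
        obtain ⟨D, hDP, hvD, hwD, hDc⟩ :=
          exists_avoiding _ hexp hPc' hv (hPn.conj_mem v hv q) hw hv1 j hj1 hlt
        have hcomm : ∀ B : Subgroup G, B ≤ (P : Subgroup G) → IsMulCommutative ↥B := fun B hB' =>
          ⟨⟨fun a b => Subtype.ext (hPc' a (hB' a.2) b (hB' b.2))⟩⟩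
        obtain ⟨g, hgD⟩ := hB A₀ D (hcomm _ inf_le_right) (hcomm _ hDP) (hj.trans hDc.symm)
        obtain ⟨e₁, he₁, s, hs, rfl⟩ := exists_split hsup g
        have hD : D = conjMap s A₀ := by
          rw [hgD, show A₀.map (MulAut.conj (e₁ * s)).toMonoidHom = conjMap (e₁ * s) A₀ from rfl,
            ← Cfsg.Lib.Coprime.conjMap_mul, Cfsg.Lib.Coprime.conjMap_eq_self]
          refine centralizer_le_normalizer _ (hEle _ ?_ he₁)
          rw [← Cfsg.Lib.Coprime.conjMap_eq_self (H := E) (g := s) (by rw [normalizer_eq_top]; exact mem_top _)]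
          exact Cfsg.Lib.Coprime.conjMap_mono (inf_le_left.trans hA)
        refine hwD ?_
        have hq' : q ∈ normalizer (D : Set G) := by
          rw [hD, Cfsg.Lib.Coprime.normalizer_conjMap, Cfsg.Lib.Coprime.mem_conjMap]
          refine Cfsg.Lib.Coprime.le_normalizer_inf hQN (by rw [normalizer_eq_top]; exact le_top) ?_
          have := hTQ s⁻¹ (inv_mem hs) q hq
          rwa [inv_inv] at this
        exact (mem_normalizer_iff.mp hq' v).mp hvD
      have haU : a ∈ U := ⟨ha, mem_centralizer_iff.mpr fun q hq =>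
        (mem_centralizer_iff.mp (hQP hq) a haP).symm⟩
      exact inf_le_left (b := centralizer (Q : Set G)) (htU.le (⟨a, haU, rfl⟩ : t * a * t⁻¹ ∈ conjMap t U))
    obtain ⟨k, hk⟩ := htx
    exact ⟨⟨t, ht, htA⟩, k, Subtype.ext hk⟩
  intro H K hHK
  have hcI : Nat.card ↥(H ⊓ E) = Nat.card ↥(K ⊓ E) := by rw [card_inf_hall E hE.hall, card_inf_hall E hE.hall, hHK]
  have hcomE : ∀ B : Subgroup G, B ≤ E → IsMulCommutative ↥B := fun B hB' =>
    ⟨⟨fun a b => Subtype.ext (hEc a (hB' a.2) b (hB' b.2))⟩⟩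
  obtain ⟨g, hg⟩ := hB (H ⊓ E) (K ⊓ E) (hcomE _ inf_le_right) (hcomE _ inf_le_right) hcI
  set A := K ⊓ E
  have hA : A ≤ E := inf_le_right
  set H₁ := conjMap g H
  have hH₁A : H₁ ⊓ E = A := by
    rw [hg]
    show H₁ ⊓ E = conjMap g (H ⊓ E)
    rw [Cfsg.Lib.Coprime.conjMap_inf, Cfsg.Lib.Coprime.conjMap_eq_self (H := E) (by rw [normalizer_eq_top]; exact mem_top _)]
  set TA := T ⊓ normalizer (A : Set G)
  -- move complements into `TA`
  have hmove : ∀ J : Subgroup G, J ⊓ E = A → ∃ m ∈ normalizer (A : Set G), ∃ J' ≤ TA,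
      conjMap m J = A ⊔ J' ∧ Nat.card ↥A * Nat.card ↥J' = Nat.card ↥J := by
    intro J hJ
    obtain ⟨R, hRJ, hRsup, hRcop, hRc⟩ := exists_hall_complement E hE.hall J
    rw [hJ] at hRsup hRc
    have hRN : R ≤ normalizer (A : Set G) := by
      rw [← hJ]
      exact hRJ.trans (Cfsg.Lib.Coprime.le_normalizer_inf le_normalizer (by rw [normalizer_eq_top]; exact le_top))
    have hEN : E ≤ normalizer (A : Set G) := (hEle A hA).trans (centralizer_le_normalizer _)
    have hR : R ≤ E ⊔ TA := by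
      rw [← Cfsg.Lib.Coprime.sup_inf_dedekind (by rw [normalizer_eq_top]; exact le_top) hEN, hsup, top_inf_eq]
      exact hRN
    obtain ⟨x, hx, hxR⟩ := Cfsg.Lib.Coprime.exists_conj_le_of_coprime (N := E) (H := TA) (L := R)
      (by rw [normalizer_eq_top]; exact le_top) (hTc.coprime_dvd_right (card_dvd_of_le inf_le_left))
      (Or.inr inferInstance) hR hRcop
    refine ⟨x⁻¹, inv_mem (hEN hx), conjMap x⁻¹ R, ?_, ?_, by rw [Cfsg.Lib.Coprime.card_conjMap, hRc]⟩
    · rw [← Cfsg.Lib.Coprime.conjMap_inv_conjMap x TA]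
      exact Cfsg.Lib.Coprime.conjMap_mono hxR
    · rw [← hRsup, Cfsg.Lib.Coprime.conjMap_sup, Cfsg.Lib.Coprime.conjMap_eq_self (inv_mem (hEN hx))]
  obtain ⟨m, hm, J₁, hJ₁, hJ₁e, hJ₁c⟩ := hmove H₁ hH₁A
  obtain ⟨n, hn, J₂, hJ₂, hJ₂e, hJ₂c⟩ := hmove K rfl
  have hall : AllConj ↥TA :=
    allConj_of_zq (zq_subgroup fun p _ W hW hWp => hZT p W (hW.trans inf_le_left) hWp) (hmain A hA)
  obtain ⟨⟨t, htT⟩, ht⟩ := hall (J₁.subgroupOf TA) (J₂.subgroupOf TA) (by
    rw [Nat.card_congr (subgroupOfEquivOfLe hJ₁).toEquiv, Nat.card_congr (subgroupOfEquivOfLe hJ₂).toEquiv]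
    rw [Cfsg.Lib.Coprime.card_conjMap, hHK, ← hJ₂c] at hJ₁c
    exact Nat.eq_of_mul_eq_mul_left Nat.card_pos hJ₁c)
  have ht' : J₂ = conjMap t J₁ := by
    have := congrArg (Subgroup.map TA.subtype) ht
    rwa [Cfsg.Lib.Coprime.map_conjMap, map_subgroupOf_eq_of_le hJ₂, map_subgroupOf_eq_of_le hJ₁] at this
  refine ⟨n⁻¹ * (t * (m * g)), ?_⟩
  rw [← Cfsg.Lib.Coprime.conjMap_mul, ← Cfsg.Lib.Coprime.conjMap_mul, ← Cfsg.Lib.Coprime.conjMap_mul, hJ₁e,
    Cfsg.Lib.Coprime.conjMap_sup, Cfsg.Lib.Coprime.conjMap_eq_self (g := t) (H := A) htT.2, ← ht', ← hJ₂e,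
    Cfsg.Lib.Coprime.conjMap_inv_conjMap]

end Cfsg.Lib.BGroups
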