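import Cfsg.Agent.BGroups.Basic
import Cfsg.Agent.RankOne.QuaternionAuto
import Cfsg.Agent.Coprime.Generation

/-!
A noncyclic elementary abelian Sylow subgroup of a solvable group with conjugate abelian subgroups
of equal order is normal.
-/

set_option linter.style.haveILetI false
set_option linter.unusedSectionVars false

namespace Cfsg.Lib.BGroups

open Subgroup Cfsg.Lib.Components

universe u v

variable {G : Type u} [Group G] [Finite G]

theorem mulAut_comm_of_cyclic {R : Type v} [Group R] [IsCyclic R] (a b : MulAut R) : a * b = b * a := by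
  obtain ⟨g, hg⟩ := IsCyclic.exists_generator (α := R)
  obtain ⟨i, hi⟩ := mem_zpowers_iff.mp (hg (a g))
  obtain ⟨j, hj⟩ := mem_zpowers_iff.mp (hg (b g))
  refine MulEquiv.ext fun x => ?_
  obtain ⟨k, rfl⟩ := mem_zpowers_iff.mp (hg x)
  rw [map_zpow, map_zpow]
  congr 1
  show a (b g) = b (a g)
  rw [← hj, ← hi, map_zpow, map_zpow, ← hi, ← hj, ← zpow_mul, ← zpow_mul, mul_comm i j]

theorem quat_elements {R : Type v} [Group R] (e : R ≃* QuaternionGroup 2) (x : R) (hx : x * x = 1) :
    x = 1 ∨ x = e.symm (QuaternionGroup.a 2) := by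
  rcases Cfsg.Lib.RankOne.quaternion_two_involutions (e x) (by rw [← map_mul, hx, map_one]) with h | h
  · exact Or.inl (e.injective (h.trans (map_one e).symm))
  · exact Or.inr (by rw [← h, MulEquiv.symm_apply_apply])

theorem quat_card {R : Type v} [Group R] (e : R ≃* QuaternionGroup 2) : Nat.card R = 8 := by
  rw [Nat.card_congr e.toEquiv, Nat.card_eq_fintype_card, QuaternionGroup.card]

/-- subgroups and images of a quaternion group of order eight -/
theorem quat_image {R : Type v} [Group R] [Finite R] (e : R ≃* QuaternionGroup 2) {H : Type v} [Group H] [Finite H]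
    (f : R →* H) {W : Subgroup H} (hW : W ≤ f.range) :
    IsCyclic ↥W ∨ Nonempty (↥W ≃* QuaternionGroup 2) ∨
      ((∀ w ∈ W, w ^ 2 = 1) ∧ ∀ a ∈ W, ∀ b ∈ W, a * b = b * a) := by
  by_cases hsq : ∀ w ∈ W, w ^ 2 = 1
  · refine Or.inr (Or.inr ⟨hsq, fun a ha b hb => ?_⟩)
    have hinv : ∀ w ∈ W, w⁻¹ = w := fun w hw => inv_eq_of_mul_eq_one_right (by rw [← pow_two]; exact hsq w hw)
    have := hinv _ (mul_mem ha hb)
    rw [mul_inv_rev, hinv a ha, hinv b hb] at this
    exact this.symm
  push Not at hsq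
  obtain ⟨w, hw, hw2⟩ := hsq
  have hd : Nat.card ↥W ∣ 8 := (card_dvd_of_le hW).trans (quat_card e ▸ card_range_dvd f)
  have h4 : orderOf w = 4 := by
    obtain ⟨x, rfl⟩ := hW hw
    have h1 : orderOf (f x) ∣ 4 := by
      refine (orderOf_map_dvd f x).trans (orderOf_dvd_of_pow_eq_one ?_)
      apply e.injective
      rw [map_pow, map_one]
      exact (by decide : ∀ q : QuaternionGroup 2, q ^ 4 = 1) (e x)
    obtain ⟨k, hk, hk'⟩ := (Nat.dvd_prime_pow Nat.prime_two).mp (show orderOf (f x) ∣ 2 ^ 2 from h1)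
    have hk2 : k = 2 := by
      by_contra hne
      refine hw2 (orderOf_dvd_iff_pow_eq_one.mp ?_)
      rw [hk']
      exact (pow_dvd_pow 2 (show k ≤ 1 by omega)).trans (pow_one 2).dvd
    rw [hk', hk2]
    rfl
  have h4W : 4 ∣ Nat.card ↥W := by
    have := orderOf_dvd_natCard (⟨w, hw⟩ : ↥W)
    rwa [orderOf_mk, h4] at this
  have hle := Nat.le_of_dvd (by norm_num) hd
  rcases (show Nat.card ↥W = 4 ∨ Nat.card ↥W = 8 by
    have := Nat.card_pos (α := ↥W)
    interval_cases Nat.card ↥W <;> omega) with h | h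
  · exact Or.inl (isCyclic_of_orderOf_eq_card (⟨w, hw⟩ : ↥W) (by rw [orderOf_mk, h4, h]))
  · refine Or.inr (Or.inl ⟨?_⟩)
    have hWr : W = f.range :=
      eq_of_le_of_card_ge hW (by rw [h]; exact Nat.le_of_dvd (by norm_num) (quat_card e ▸ card_range_dvd f))
    have hinj : Function.Injective f := by
      rw [← MonoidHom.ker_eq_bot_iff]
      refine Subgroup.eq_bot_of_card_eq _ ?_
      have := f.ker.card_mul_index
      rw [index_ker, ← hWr, h, quat_card e] at this
      omega
    exact ((MulEquiv.subgroupCongr hWr).trans (MonoidHom.ofInjective hinj).symm).trans e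

variable {p : ℕ} [hp : Fact p.Prime]

/-- the hypotheses on the Sylow subgroup -/
structure Elem (P : Sylow p G) : Prop where
  hB : AbConj G
  exp : ∀ x ∈ (P : Subgroup G), x ^ p = 1
  comm : IsMulCommutative ↥(P : Subgroup G)
  noncyc : ¬ IsCyclic ↥(P : Subgroup G)

namespace Elem

variable {P : Sylow p G} (h : Elem P)
include h

theorem order {x : G} (hx : x ∈ (P : Subgroup G)) (hx1 : x ≠ 1) : orderOf x = p :=
  orderOf_eq_prime (h.exp x hx) hx1

theorem le_of_mem {N : Subgroup G} [N.Normal] {x : G} (hx : x ∈ (P : Subgroup G)) (hx1 : x ≠ 1) (hxN : x ∈ N) :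
    (P : Subgroup G) ≤ N := by
  intro y hy
  by_cases hy1 : y = 1
  · rw [hy1]; exact one_mem N
  · exact h.hB.mem_of_orderOf_eq hxN ((h.order hx hx1).trans (h.order hy hy1).symm)

theorem card_ge : p ^ 2 ≤ Nat.card ↥(P : Subgroup G) := by
  obtain ⟨n, hn⟩ := IsPGroup.iff_card.mp P.2
  rw [hn]
  refine Nat.pow_le_pow_right hp.out.pos ?_
  by_contra hlt
  refine h.noncyc ?_
  rcases (show n = 0 ∨ n = 1 by omega) with rfl | rfl
  · rw [pow_zero] at hn
    haveI := (Nat.card_eq_one_iff_unique.mp hn).1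
    infer_instance
  · exact isCyclic_of_prime_card (p := p) (by rw [hn, pow_one])

theorem exists_pair : ∃ x ∈ (P : Subgroup G), ∃ y ∈ (P : Subgroup G), x ≠ 1 ∧ y ∉ zpowers x := by
  obtain ⟨x, hx⟩ : ∃ x : ↥(P : Subgroup G), x ≠ 1 := by
    by_contra hcon
    push Not at hcon
    haveI : Subsingleton ↥(P : Subgroup G) := ⟨fun a b => (hcon a).trans (hcon b).symm⟩
    exact h.noncyc inferInstance
  refine ⟨x, x.2, ?_⟩
  by_contra hcon
  push Not at hcon
  refine h.noncyc ⟨⟨x, fun y => ?_⟩⟩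
  obtain ⟨k, hk⟩ := mem_zpowers_iff.mp (hcon y y.2 fun e => hx (Subtype.ext e))
  exact mem_zpowers_iff.mpr ⟨k, Subtype.ext (by simpa using hk)⟩

/-- `P` acts trivially on a cyclic or quaternion group -/
theorem kills {R : Type u} [Group R] [Finite R] (f : G →* MulAut R)
    (hR : IsCyclic R ∨ (p ≠ 2 ∧ Nonempty (R ≃* QuaternionGroup 2))) : (P : Subgroup G) ≤ f.ker := by
  rcases hR with hc | ⟨hp2, ⟨e⟩⟩
  · obtain ⟨x, hx, y, hy, hx1, hxy⟩ := h.exists_pair
    have hy1 : y ≠ 1 := fun e => hxy (e ▸ one_mem _)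
    obtain ⟨g, k, hg⟩ := h.hB.cyclic ((h.order hx hx1).trans (h.order hy hy1).symm)
    refine h.le_of_mem (x := y * (x ^ k)⁻¹) (mul_mem hy (inv_mem (zpow_mem hx k))) (fun e => hxy ?_) ?_
    · rw [mul_inv_eq_one.mp e]; exact zpow_mem (mem_zpowers x) k
    · rw [MonoidHom.mem_ker, map_mul, map_inv, hg, map_mul, map_mul, map_inv,
        mulAut_comm_of_cyclic (f g) (f (x ^ k)), mul_inv_cancel_right, mul_inv_cancel]
  · obtain ⟨M, hM⟩ : ∃ M : R, orderOf M = 4 :=
      ⟨e.symm (QuaternionGroup.a 1), by rw [MulEquiv.orderOf_eq, QuaternionGroup.orderOf_a_one]⟩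
    have hbig : 8 < Nat.card ↥(P : Subgroup G) := by
      refine lt_of_lt_of_le ?_ h.card_ge
      have h3 : 3 ≤ p := lt_of_le_of_ne hp.out.two_le (Ne.symm hp2)
      calc 8 < 3 ^ 2 := by norm_num
        _ ≤ p ^ 2 := Nat.pow_le_pow_left h3 2
    obtain ⟨x, y, hne, hxy⟩ : ∃ x y : ↥(P : Subgroup G), x ≠ y ∧ f x M = f y M := by
      by_contra hcon
      push Not at hcon
      have hinj : Function.Injective fun x : ↥(P : Subgroup G) => f x M := fun a b hab => by
        by_contra hne
        exact hcon a b hne hab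
      have := Nat.card_le_card_of_injective _ hinj
      rw [quat_card e] at this
      omega
    refine h.le_of_mem (x := (x : G)⁻¹ * y) (mul_mem (inv_mem x.2) y.2)
      (fun e => hne (Subtype.ext (inv_mul_eq_one.mp e))) (MonoidHom.mem_ker.mpr ?_)
    set φ := f ((x : G)⁻¹ * y) with hφdef
    have hfix : φ M = M := by
      rw [hφdef, map_mul, map_inv, MulAut.mul_apply, ← hxy]
      exact MulEquiv.symm_apply_apply _ _
    have hodd : Odd (orderOf φ) := by
      have h1 : orderOf φ ∣ p := by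
        refine orderOf_dvd_of_pow_eq_one ?_
        rw [hφdef, ← map_pow, h.exp _ (mul_mem (inv_mem x.2) y.2), map_one]
      exact (hp.out.odd_of_ne_two hp2).of_dvd_nat h1
    refine Cfsg.Lib.RankOne.odd_auto_trivial (k := 2) (zpowers M) (by rw [Nat.card_zpowers, hM]; rfl) ?_ φ hodd ?_
    · have := (zpowers M).card_mul_index
      rw [Nat.card_zpowers, hM, quat_card e] at this
      omega
    · intro m hm
      obtain ⟨k, rfl⟩ := mem_zpowers_iff.mp hm
      rw [map_zpow, hfix]
      exact zpow_mem (mem_zpowers M) k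

/-- `P` acts trivially on a normal elementary abelian `r`-group -/
theorem kills_elementary [Group.IsSolvable G] {r : ℕ} [hr : Fact r.Prime] (hrp : r ≠ p) (S : Sylow r G)
    (hS : ∀ x ∈ (S : Subgroup G), x ^ r = 1) (hSc : IsMulCommutative ↥(S : Subgroup G)) :
    (P : Subgroup G) ≤ centralizer (pCore r G : Set G) := by
  classical
  set V := pCore r G with hVdef
  have hVS : V ≤ (S : Subgroup G) := Cfsg.Lib.Coprime.pCore_le_sylow r S
  have hVc : ∀ a b : ↥V, a * b = b * a := fun a b => Subtype.ext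
    (show (a : G) * b = b * a from
      congrArg Subtype.val (hSc.is_comm.comm (⟨a, hVS a.2⟩ : ↥(S : Subgroup G)) ⟨b, hVS b.2⟩))
  letI : CommGroup ↥V := { (inferInstance : Group ↥V) with mul_comm := hVc }
  have hVexp : ∀ v : ↥V, v ^ r = 1 := fun v => Subtype.ext (hS _ (hVS v.2))
  set f : G →* MulAut ↥V := MulAut.conjNormal with hf
  have hker : ∀ x : G, f x = 1 ↔ x ∈ centralizer (V : Set G) := by
    intro x
    refine ⟨fun hx => mem_centralizer_iff.mpr fun v hv => ?_, fun hx => ?_⟩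
    · have := congrArg (fun φ : MulAut ↥V => ((φ ⟨v, hv⟩ : ↥V) : G)) hx
      simp only [hf, MulAut.conjNormal_apply, MulAut.one_apply] at this
      exact (mul_inv_eq_iff_eq_mul.mp this).symm
    · refine MulEquiv.ext fun v => Subtype.ext ?_
      rw [hf, MulAut.conjNormal_apply, MulAut.one_apply]
      exact mul_inv_eq_iff_eq_mul.mpr (mem_centralizer_iff.mp hx v v.2).symm
  intro x hxP
  by_contra hx
  -- `P` is faithful on `V`
  have hfaith : ∀ y ∈ (P : Subgroup G), f y = 1 → y = 1 := by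
    intro y hy hy'
    by_contra hy1
    exact hx (h.le_of_mem (N := centralizer (V : Set G)) hy hy1 ((hker y).mp hy') hxP)
  -- abelian normal subgroups of the image act freely
  have hfree : ∀ W : Subgroup (MulAut ↥V), (∀ a ∈ W, ∀ b ∈ W, a * b = b * a) →
      (∀ g : G, ∀ w ∈ W, f g * w * (f g)⁻¹ ∈ W) → ∀ w ∈ W, ∀ v : ↥V, v ≠ 1 → w v = v → w = 1 := by
    intro W hWc hWn w hw v hv hwv
    let B : ↥V → Set (MulAut ↥V) := fun u => {c | c ∈ W ∧ c u = u}
    have hmono : ∀ u u' : ↥V, u ≠ 1 → u' ≠ 1 → (B u).ncard ≤ (B u').ncard := by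
      intro u u' hu hu'
      have ho : orderOf (u : G) = orderOf (u' : G) := by
        rw [orderOf_coe, orderOf_coe, orderOf_eq_prime (hVexp u) hu, orderOf_eq_prime (hVexp u') hu']
      obtain ⟨g, k, hgk⟩ := h.hB.cyclic ho
      have hu'e : u' = f g (u ^ k) := Subtype.ext (by rw [hf, MulAut.conjNormal_apply, hgk, Subgroup.coe_zpow])
      refine Set.ncard_le_ncard_of_injOn (fun c => f g * c * (f g)⁻¹) (fun c hc => ⟨hWn g c hc.1, ?_⟩)
        (fun a _ b _ hab => mul_left_cancel (mul_right_cancel hab)) (Set.toFinite _)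
      rw [hu'e, MulAut.mul_apply, MulAut.mul_apply, MulAut.inv_def, MulEquiv.symm_apply_apply,
        map_zpow c, hc.2]
    have hall : ∀ u u' : ↥V, u ≠ 1 → u' ≠ 1 → B u = B u' := by
      intro u u' hu hu'
      have hsub : ∀ a b : ↥V, a ≠ 1 → b ≠ 1 → B a ⊆ B b → B a = B b := fun a b ha hb hab =>
        Set.eq_of_subset_of_ncard_le hab (hmono b a hb ha)
      by_cases huu : u * u' = 1
      · have hu'i : u' = u⁻¹ := eq_inv_of_mul_eq_one_right huu
        refine hsub u u' hu hu' fun c hc => ⟨hc.1, ?_⟩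
        rw [hu'i, map_inv, hc.2]
      by_contra hne
      have hsub2 : ∀ b ∈ B (u * u'), b ∈ B u ∧ b ∈ B u' := by
        intro b hb
        set d := b u * u⁻¹ with hd
        have hd' : d = u' * (b u')⁻¹ := by
          have h1 := hb.2
          rw [map_mul] at h1
          rw [hd, eq_mul_inv_iff_mul_eq, mul_right_comm, h1, mul_comm u u', mul_inv_cancel_right]
        have hd1 : d = 1 := by
          by_contra hd1
          have h1 : B u ⊆ B d := fun c hc => ⟨hc.1, by
            rw [hd, map_mul, map_inv, hc.2, ← MulAut.mul_apply, hWc c hc.1 b hb.1, MulAut.mul_apply, hc.2]⟩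
          have h2 : B u' ⊆ B d := fun c hc => ⟨hc.1, by
            rw [hd', map_mul, map_inv, hc.2, ← MulAut.mul_apply, hWc c hc.1 b hb.1, MulAut.mul_apply, hc.2]⟩
          exact hne ((hsub u d hu hd1 h1).trans (hsub u' d hu' hd1 h2).symm)
        refine ⟨⟨hb.1, mul_inv_eq_one.mp hd1⟩, hb.1, ?_⟩
        rw [hd'] at hd1
        exact (mul_inv_eq_one.mp hd1).symm
      exact hne ((hsub _ u huu hu fun b hb => (hsub2 b hb).1).symm.trans
        (hsub _ u' huu hu' fun b hb => (hsub2 b hb).2))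
    refine MulEquiv.ext fun u => ?_
    by_cases hu : u = 1
    · rw [hu, map_one, map_one]
    · exact ((hall v u hv hu) ▸ (⟨hw, hwv⟩ : w ∈ B v) : w ∈ B u).2
  have hVne : ∃ v : ↥V, v ≠ 1 := by
    by_contra hcon
    push Not at hcon
    exact hx ((hker x).mp (MulEquiv.ext fun v => by rw [hcon v, map_one, map_one]))
  -- hence are cyclic
  have hline : ∀ q : ℕ, q.Prime → q ≠ r → ∀ W : Subgroup (MulAut ↥V), (∀ a ∈ W, ∀ b ∈ W, a * b = b * a) →
      (∀ w ∈ W, w ^ q = 1) → (∀ g : G, ∀ w ∈ W, f g * w * (f g)⁻¹ ∈ W) →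
      ∀ a ∈ W, a ≠ 1 → ∀ b ∈ W, b ∈ zpowers a := by
    intro q hq hqr W hWc hWq hWn a ha ha1 b hb
    by_contra hba
    haveI := Fact.mk hq
    obtain ⟨v, hv⟩ := hVne
    have hb1 : b ≠ 1 := fun e => hba (e ▸ one_mem _)
    have hmem : v ^ q ∈ (⊥ : Subgroup ↥V) := by
      refine Cfsg.Lib.Coprime.pow_mem_of_fixed hq (hWq a ha) (hWq b hb) (hWc a ha b hb) (fun u hu => ?_) (fun j _ u hu => ?_) v
      · by_contra hu1
        exact hb1 (hfree W hWc hWn b hb u hu1 hu)
      · by_contra hu1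
        have hab := hfree W hWc hWn (a * b ^ j) (mul_mem ha (pow_mem hb j)) u hu1 hu
        refine hba ?_
        have hle : zpowers a ≤ zpowers b := by
          rw [zpowers_le, eq_inv_of_mul_eq_one_left hab]
          exact inv_mem (pow_mem (mem_zpowers b) j)
        have he : zpowers a = zpowers b := eq_of_le_of_card_ge hle (by
          rw [Nat.card_zpowers, Nat.card_zpowers, orderOf_eq_prime (hWq a ha) ha1, orderOf_eq_prime (hWq b hb) hb1])
        rw [he]
        exact mem_zpowers b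
    have h1 : orderOf v ∣ q := orderOf_dvd_of_pow_eq_one (mem_bot.mp hmem)
    rw [orderOf_eq_prime (hVexp v) hv] at h1
    exact hqr ((Nat.prime_dvd_prime_iff_eq hr.out hq).mp h1).symm
  haveI : Group.IsSolvable ↥f.range := Group.isSolvable_of_surjective f.rangeRestrict_surjective
  set π := f.rangeRestrict
  have hπs : Function.Surjective π := f.rangeRestrict_surjective
  have hnorm : ∀ (W : Subgroup ↥f.range) [W.Normal], ∀ g : G, ∀ w ∈ W.map f.range.subtype,
      f g * w * (f g)⁻¹ ∈ W.map f.range.subtype := by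
    rintro W hW g _ ⟨w, hw, rfl⟩
    exact ⟨π g * w * (π g)⁻¹, hW.conj_mem w hw (π g), rfl⟩
  -- `P` centralizes every `O_q` of the image
  have hcent : ∀ q : Nat.Primes, (P : Subgroup G).map π ≤ centralizer (pCore q.1 ↥f.range : Set ↥f.range) := by
    intro q
    haveI := Fact.mk q.2
    set W := pCore q.1 ↥f.range
    have hWQ : ∀ Q : Sylow q.1 G, W ≤ (Q : Subgroup G).map π := fun Q =>
      (Cfsg.Lib.Coprime.pCore_le_sylow q.1 (Q.mapSurjective hπs)).trans (Sylow.coe_mapSurjective _ _).le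
    by_cases hqp : q.1 = p
    · haveI := hp
      rintro _ ⟨y, hy, rfl⟩
      refine mem_centralizer_iff.mpr fun w hw => ?_
      have hwP : w ∈ (P : Subgroup G).map π := by
        have hWP : pCore p ↥f.range ≤ (P : Subgroup G).map π :=
          (Cfsg.Lib.Coprime.pCore_le_sylow p (P.mapSurjective hπs)).trans (Sylow.coe_mapSurjective _ _).le
        exact hWP (hqp ▸ hw)
      obtain ⟨z, hz, rfl⟩ := hwP
      rw [← map_mul, ← map_mul]
      exact congrArg π (congrArg Subtype.val (h.comm.is_comm.comm (⟨z, hz⟩ : ↥(P : Subgroup G)) ⟨y, hy⟩))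
    suffices hW : IsCyclic ↥W ∨ (p ≠ 2 ∧ Nonempty (↥W ≃* QuaternionGroup 2)) by
      rintro _ ⟨y, hy, rfl⟩
      refine mem_centralizer_iff.mpr fun w hw => ?_
      have h1 := h.kills ((MulAut.conjNormal (H := W)).comp π) hW hy
      have h2 := congrArg (fun φ : MulAut ↥W => ((φ ⟨w, hw⟩ : ↥W) : ↥f.range)) (MonoidHom.mem_ker.mp h1)
      simp only [MonoidHom.comp_apply, MulAut.conjNormal_apply, MulAut.one_apply] at h2
      exact (mul_inv_eq_iff_eq_mul.mp h2).symm
    have hcyc : (∀ a ∈ W, ∀ b ∈ W, a * b = b * a) → (∀ w ∈ W, w ^ q.1 = 1) → q.1 ≠ r → IsCyclic ↥W := by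
      intro hc he hqr
      by_cases hWb : ∀ a : ↥W, a = 1
      · haveI : Subsingleton ↥W := ⟨fun a b => (hWb a).trans (hWb b).symm⟩
        infer_instance
      push Not at hWb
      obtain ⟨a, ha⟩ := hWb
      refine ⟨⟨a, fun b => ?_⟩⟩
      have := hline q.1 q.2 hqr (W.map f.range.subtype)
        (by rintro _ ⟨s, hs, rfl⟩ _ ⟨t, ht, rfl⟩; rw [← map_mul, ← map_mul, hc s hs t ht])
        (by rintro _ ⟨s, hs, rfl⟩; rw [← map_pow, he s hs, map_one])
        (hnorm W) _ (mem_map_of_mem _ a.2)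
        (fun e => ha (Subtype.ext (Subtype.ext e))) _ (mem_map_of_mem _ b.2)
      obtain ⟨k, hk⟩ := mem_zpowers_iff.mp this
      exact mem_zpowers_iff.mpr ⟨k, Subtype.ext (Subtype.ext (by simpa using hk))⟩
    by_cases hqr : q.1 = r
    · -- the Sylow subgroup centralizes `V`
      left
      have hb : W = ⊥ := by
        rw [eq_bot_iff]
        intro w hw
        have hWS : pCore r ↥f.range ≤ (S : Subgroup G).map π :=
          (Cfsg.Lib.Coprime.pCore_le_sylow r (S.mapSurjective hπs)).trans (Sylow.coe_mapSurjective _ _).le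
        have hw' : w ∈ pCore r ↥f.range := by
          have h1 : pCore q.1 ↥f.range = pCore r ↥f.range := by rw [hqr]
          exact h1 ▸ hw
        obtain ⟨s, hs, rfl⟩ := hWS hw'
        refine mem_bot.mpr (Subtype.ext ((hker s).mpr (mem_centralizer_iff.mpr fun v hv => ?_)))
        exact congrArg Subtype.val (hSc.is_comm.comm (⟨v, hVS hv⟩ : ↥(S : Subgroup G)) ⟨s, hs⟩)
      rw [hb]
      infer_instance
    set Q : Sylow q.1 G := default
    rcases sylow_cases h.hB Q with ⟨hexp, hc⟩ | hc | ⟨hq2, ⟨e⟩⟩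
    · refine Or.inl (hcyc (fun a ha b hb => ?_) (fun w hw => ?_) hqr)
      · obtain ⟨s, hs, rfl⟩ := hWQ Q ha
        obtain ⟨t, ht, rfl⟩ := hWQ Q hb
        rw [← map_mul, ← map_mul]
        exact congrArg π (congrArg Subtype.val (hc.is_comm.comm (⟨s, hs⟩ : ↥(Q : Subgroup G)) ⟨t, ht⟩))
      · obtain ⟨s, hs, rfl⟩ := hWQ Q hw
        rw [← map_pow, hexp s hs, map_one]
    · left
      haveI := hc
      haveI : IsCyclic ↥((Q : Subgroup G).map π) :=
        isCyclic_of_surjective _ (π.subgroupMap_surjective (Q : Subgroup G))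
      exact isCyclic_of_injective (inclusion (hWQ Q)) (inclusion_injective _)
    · have hp2 : p ≠ 2 := fun e => hqp (hq2.trans e.symm)
      rcases quat_image e (π.comp (Q : Subgroup G).subtype) (W := W) (by
        rw [MonoidHom.range_comp, range_subtype]; exact hWQ Q) with h1 | h1 | ⟨h1, h2⟩
      · exact Or.inl h1
      · exact Or.inr ⟨hp2, h1⟩
      · exact Or.inl (hcyc h2 (fun w hw => by rw [hq2]; exact h1 w hw) hqr)
  -- so `P` lands in `O_p` of the image, which is cyclic
  set F := fittingSubgroup ↥f.range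
  have hPF : (P : Subgroup G).map π ≤ F ⊓ centralizer (F : Set ↥f.range) := by
    have h1 : (P : Subgroup G).map π ≤ centralizer (F : Set ↥f.range) := by
      rw [le_centralizer_iff]
      show fittingSubgroup _ ≤ _
      rw [fitting_eq_iSup_pCore]
      exact iSup_le fun q => le_centralizer_iff.mp (hcent q)
    exact le_inf (h1.trans Cfsg.Lib.Coprime.centralizer_fitting_le) h1
  let W : Subgroup ↥f.range :=
    { carrier := {z | z ∈ F ⊓ centralizer (F : Set ↥f.range) ∧ z ^ p = 1}
      one_mem' := ⟨one_mem _, one_pow _⟩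
      mul_mem' := fun {a b} ha hb => ⟨mul_mem ha.1 hb.1, by
        rw [(show Commute a b from mem_centralizer_iff.mp hb.1.2 a ha.1.1).mul_pow, ha.2, hb.2, one_mul]⟩
      inv_mem' := fun {a} ha => ⟨inv_mem ha.1, by rw [inv_pow, ha.2, inv_one]⟩ }
  haveI : W.Normal := ⟨fun z hz g => ⟨(inferInstance : (F ⊓ centralizer (F : Set ↥f.range)).Normal).conj_mem z hz.1 g,
    by rw [conj_pow, hz.2, mul_one, mul_inv_cancel]⟩⟩
  obtain ⟨a, ha, b, hb, ha1, hab⟩ := h.exists_pair
  have hmemW : ∀ y ∈ (P : Subgroup G), f y ∈ W.map f.range.subtype := fun y hy =>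
    ⟨π y, ⟨hPF (mem_map_of_mem π hy), by rw [← map_pow, h.exp y hy, map_one]⟩, rfl⟩
  have hzp := hline p hp.out hrp.symm (W.map f.range.subtype)
    (by rintro _ ⟨s, hs, rfl⟩ _ ⟨t, ht, rfl⟩; rw [← map_mul, ← map_mul, mem_centralizer_iff.mp ht.1.2 s hs.1.1])
    (by rintro _ ⟨s, hs, rfl⟩; rw [← map_pow, hs.2, map_one]) (hnorm W)
    _ (hmemW a ha) (fun e => ha1 (hfaith a ha e)) _ (hmemW b hb)
  obtain ⟨k, hk⟩ := mem_zpowers_iff.mp hzp
  refine hab (mem_zpowers_iff.mpr ⟨k, ?_⟩)
  refine (mul_inv_eq_one.mp (hfaith (a ^ k * b⁻¹) (mul_mem (zpow_mem ha k) (inv_mem hb)) ?_))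
  rw [map_mul, map_inv, map_zpow, hk, mul_inv_cancel]

theorem normal [Group.IsSolvable G] : (P : Subgroup G).Normal := by
  have hcent : ∀ r : Nat.Primes, (P : Subgroup G) ≤ centralizer (pCore r.1 G : Set G) := by
    intro r
    haveI := Fact.mk r.2
    by_cases hrp : r.1 = p
    · intro y hy
      refine mem_centralizer_iff.mpr fun w hw => ?_
      have hwP : w ∈ (P : Subgroup G) := Cfsg.Lib.Coprime.pCore_le_sylow p P (hrp ▸ hw)
      exact congrArg Subtype.val (h.comm.is_comm.comm (⟨w, hwP⟩ : ↥(P : Subgroup G)) ⟨y, hy⟩)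
    set R := pCore r.1 G
    set S : Sylow r.1 G := default
    have hRS : R ≤ (S : Subgroup G) := Cfsg.Lib.Coprime.pCore_le_sylow r.1 S
    rcases sylow_cases h.hB S with ⟨hexp, hc⟩ | hR
    · exact h.kills_elementary hrp S hexp hc
    suffices hW : IsCyclic ↥R ∨ (p ≠ 2 ∧ Nonempty (↥R ≃* QuaternionGroup 2)) by
      intro y hy
      refine mem_centralizer_iff.mpr fun w hw => ?_
      have h1 := h.kills (MulAut.conjNormal (H := R)) hW hy
      have h2 := congrArg (fun φ : MulAut ↥R => ((φ ⟨w, hw⟩ : ↥R) : G)) (MonoidHom.mem_ker.mp h1)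
      simp only [MulAut.conjNormal_apply, MulAut.one_apply] at h2
      exact (mul_inv_eq_iff_eq_mul.mp h2).symm
    rcases hR with hc | ⟨hr2, ⟨e⟩⟩
    · haveI := hc
      exact Or.inl (isCyclic_of_injective (inclusion hRS) (inclusion_injective _))
    have hp2 : p ≠ 2 := fun e => hrp (hr2.trans e.symm)
    rcases quat_image e (S : Subgroup G).subtype (W := R) (by rw [range_subtype]; exact hRS) with h1 | h1 | ⟨h1, -⟩
    · exact Or.inl h1
    · exact Or.inr ⟨hp2, h1⟩
    · -- only two elements square to one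
      left
      have hle : R ≤ zpowers ((e.symm (QuaternionGroup.a 2) : ↥(S : Subgroup G)) : G) := by
        intro w hw
        rcases quat_elements e ⟨w, hRS hw⟩ (Subtype.ext (by
          show w * w = 1; rw [← pow_two]; exact h1 w hw)) with hh | hh
        · rw [show w = 1 from congrArg Subtype.val hh]; exact one_mem _
        · rw [show w = _ from congrArg Subtype.val hh]; exact mem_zpowers _
      exact isCyclic_of_injective (inclusion hle) (inclusion_injective _)
  set F := fittingSubgroup G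
  have h1 : (P : Subgroup G) ≤ centralizer (F : Set G) := by
    rw [le_centralizer_iff]
    show fittingSubgroup _ ≤ _
    rw [fitting_eq_iSup_pCore]
    exact iSup_le fun q => le_centralizer_iff.mp (hcent q)
  have h2 : (P : Subgroup G) ≤ F := h1.trans Cfsg.Lib.Coprime.centralizer_fitting_le
  let W : Subgroup G :=
    { carrier := {z | z ∈ F ⊓ centralizer (F : Set G) ∧ z ^ p = 1}
      one_mem' := ⟨one_mem _, one_pow _⟩
      mul_mem' := fun {a b} ha hb => ⟨mul_mem ha.1 hb.1, by
        rw [(show Commute a b from mem_centralizer_iff.mp hb.1.2 a ha.1.1).mul_pow, ha.2, hb.2, one_mul]⟩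
      inv_mem' := fun {a} ha => ⟨inv_mem ha.1, by rw [inv_pow, ha.2, inv_one]⟩ }
  haveI : W.Normal := ⟨fun z hz g => ⟨(inferInstance : (F ⊓ centralizer (F : Set G)).Normal).conj_mem z hz.1 g,
    by rw [conj_pow, hz.2, mul_one, mul_inv_cancel]⟩⟩
  have hWp : IsPGroup p ↥W := fun z => ⟨1, Subtype.ext (by rw [pow_one]; exact z.2.2)⟩
  have hPW : (P : Subgroup G) = W :=
    (P.is_maximal' hWp fun z hz => ⟨⟨h2 hz, h1 hz⟩, h.exp z hz⟩).symm
  rw [hPW]
  infer_instance

end Elem

end Cfsg.Lib.BGroups
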