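import Cfsg.Agent.BGroups.Basic
import Cfsg.Agent.RankOne.QuaternionAuto
import Cfsg.Agent.Coprime.SchurZassenhaus
import Cfsg.Agent.SolvStruct.CyclicProduct

/-!
Solvable groups with cyclic or quaternion Sylow subgroups and fused cyclic subgroups of order four:
subgroups of equal order are conjugate.
-/

set_option linter.style.haveILetI false
set_option linter.unusedSectionVars false

namespace Cfsg.Lib.BGroups

open Subgroup Cfsg.Lib.Components
open Cfsg.Lib.Coprime (conjMap)

universe u v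

/-- subgroups of equal order are conjugate -/
def AllConj (G : Type u) [Group G] : Prop :=
  ∀ H K : Subgroup G, Nat.card ↥H = Nat.card ↥K → ∃ g : G, K = conjMap g H

/-- every `p`-subgroup is cyclic or quaternion of order eight -/
def ZQ (G : Type u) [Group G] : Prop :=
  ∀ (p : ℕ) [Fact p.Prime] (W : Subgroup G), IsPGroup p ↥W →
    IsCyclic ↥W ∨ (p = 2 ∧ Nonempty (↥W ≃* QuaternionGroup 2))

/-- cyclic subgroups of order four are conjugate -/
def Fused (G : Type u) [Group G] : Prop :=
  ∀ x y : G, orderOf x = 4 → orderOf y = 4 → ∃ (g : G) (k : ℤ), y = g * x ^ k * g⁻¹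

variable {G : Type u} [Group G] [Finite G]

theorem card_eight {R : Type v} [Group R] (e : R ≃* QuaternionGroup 2) : Nat.card R = 8 := by
  rw [Nat.card_congr e.toEquiv, Nat.card_eq_fintype_card, QuaternionGroup.card]

theorem order_four {R : Type v} [Group R] (e : R ≃* QuaternionGroup 2) {x : R} (hx : x * x ≠ 1) :
    orderOf x = 4 := by
  have : Fact (Nat.Prime 2) := ⟨Nat.prime_two⟩
  refine orderOf_eq_prime_pow (p := 2) (n := 1) (by rwa [pow_one, pow_two]) ?_
  apply e.injective
  rw [map_pow, map_one]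
  exact (by decide : ∀ q : QuaternionGroup 2, q ^ 2 ^ 2 = 1) (e x)

theorem sq_ne_one_of_four {R : Type v} [Group R] {x : R} (hx : orderOf x = 4) : x * x ≠ 1 := by
  intro h
  have := orderOf_dvd_of_pow_eq_one (n := 2) (by rwa [pow_two] : x ^ 2 = 1)
  rw [hx] at this
  exact absurd (Nat.le_of_dvd two_pos this) (by norm_num)

theorem quat_table : ∀ x : QuaternionGroup 2, x * x ≠ 1 →
    (∃ y, y * y ≠ 1 ∧ y * x * y⁻¹ = x⁻¹ ∧ (x * y) * (x * y) ≠ 1) ∧
      ∀ z, z * z ≠ 1 ∨ z = 1 ∨ z = x * x := by decide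

/-- every element of order four has a partner inverting it -/
theorem quat_partner {R : Type v} [Group R] (e : R ≃* QuaternionGroup 2) {x : R} (hx : orderOf x = 4) :
    ∃ y, orderOf y = 4 ∧ y * x * y⁻¹ = x⁻¹ ∧ orderOf (x * y) = 4 := by
  obtain ⟨y, hy, hyx, hxy⟩ := (quat_table (e x) fun h => sq_ne_one_of_four hx (e.injective (by rw [map_mul, h, map_one]))).1
  refine ⟨e.symm y, order_four e fun h => hy ?_, e.injective ?_, order_four e fun h => hxy ?_⟩
  · simpa using congrArg e h
  · simpa using hyx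
  · simpa using congrArg e h

theorem quat_exists_four {R : Type v} [Group R] (e : R ≃* QuaternionGroup 2) : ∃ x : R, orderOf x = 4 :=
  ⟨e.symm (QuaternionGroup.a 1), by rw [MulEquiv.orderOf_eq, QuaternionGroup.orderOf_a_one]⟩

/-- the elements of order four generate -/
theorem quat_gen {R : Type v} [Group R] (e : R ≃* QuaternionGroup 2) (S : Subgroup R)
    (hS : ∀ x : R, orderOf x = 4 → x ∈ S) (z : R) : z ∈ S := by
  obtain ⟨x, hx⟩ := quat_exists_four e
  rcases (quat_table (e x) fun h => sq_ne_one_of_four hx (e.injective (by rw [map_mul, h, map_one]))).2 (e z) with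
    h | h | h
  · exact hS z (order_four e fun h' => h (by rw [← map_mul, h', map_one]))
  · rw [e.map_eq_one_iff.mp h]; exact one_mem S
  · rw [← map_mul] at h
    rw [e.injective h]
    exact mul_mem (hS x hx) (hS x hx)

/-- the same, for a subgroup -/
theorem quat_gen' {Q : Subgroup G} (e : ↥Q ≃* QuaternionGroup 2) (S : Subgroup G)
    (hS : ∀ x ∈ Q, orderOf x = 4 → x ∈ S) : Q ≤ S :=
  fun z hz => quat_gen e (S.subgroupOf Q) (fun x hx => hS x x.2 (by rwa [orderOf_coe])) ⟨z, hz⟩

/-- order of the intersection with a normal Hall subgroup -/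
theorem card_inf_hall (N : Subgroup G) [N.Normal] (hN : (Nat.card ↥N).Coprime N.index) (H : Subgroup G) :
    Nat.card ↥(H ⊓ N) = Nat.gcd (Nat.card ↥H) (Nat.card ↥N) := by
  have h1 : Nat.card ↥(N.subgroupOf H) = Nat.card ↥(H ⊓ N) := by
    rw [← card_map_of_injective H.subtype_injective, subgroupOf_map_subtype, inf_comm]
  have h2 := (N.subgroupOf H).card_mul_index
  rw [h1] at h2
  have h3 : (N.relIndex H).Coprime (Nat.card ↥N) :=
    (hN.coprime_dvd_right (relIndex_dvd_index_of_normal N H)).symm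
  rw [← h2]
  show _ = Nat.gcd (Nat.card ↥(H ⊓ N) * N.relIndex H) _
  rw [h3.gcd_mul_right_cancel, Nat.gcd_eq_left (card_dvd_of_le inf_le_right)]

/-- a subgroup splits over its intersection with a normal Hall subgroup -/
theorem exists_hall_complement (N : Subgroup G) [N.Normal] (hN : (Nat.card ↥N).Coprime N.index) (H : Subgroup G) :
    ∃ R, R ≤ H ∧ (H ⊓ N) ⊔ R = H ∧ (Nat.card ↥N).Coprime (Nat.card ↥R) ∧
      Nat.card ↥H = Nat.card ↥(H ⊓ N) * Nat.card ↥R := by
  have hcop : (Nat.card ↥N).Coprime ((H ⊓ N).relIndex H) := by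
    rw [inf_relIndex_left]
    exact hN.coprime_dvd_right (relIndex_dvd_index_of_normal N H)
  have hn : H ≤ normalizer ((H ⊓ N : Subgroup G) : Set G) :=
    Cfsg.Lib.Coprime.le_normalizer_inf le_normalizer (by rw [normalizer_eq_top]; exact le_top)
  obtain ⟨R, hR, hsup, hc⟩ := Cfsg.Lib.Coprime.exists_complement_in inf_le_left hn
    (hcop.coprime_dvd_left (card_dvd_of_le inf_le_right))
  refine ⟨R, hR, hsup, hc ▸ hcop, ?_⟩
  conv_lhs => rw [← hsup]
  exact Cfsg.Lib.Coprime.card_sup_coprime (hR.trans hn)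
    ((hc ▸ hcop).coprime_dvd_left (card_dvd_of_le inf_le_right))

theorem zq_subgroup {T : Subgroup G} (h : ∀ (p : ℕ) [Fact p.Prime] (W : Subgroup G), W ≤ T → IsPGroup p ↥W →
    IsCyclic ↥W ∨ (p = 2 ∧ Nonempty (↥W ≃* QuaternionGroup 2))) : ZQ ↥T := by
  intro p _ W hW
  let e := equivMapOfInjective W T.subtype T.subtype_injective
  rcases h p (W.map T.subtype) (map_subtype_le _) (hW.of_equiv e) with hc | ⟨hp, ⟨f⟩⟩
  · exact Or.inl (e.isCyclic.mpr hc)
  · exact Or.inr ⟨hp, ⟨e.trans f⟩⟩

theorem fused_of_cyclic (h : ∀ W : Subgroup G, IsPGroup 2 ↥W → IsCyclic ↥W) : Fused G := by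
  haveI : Fact (Nat.Prime 2) := ⟨Nat.prime_two⟩
  intro x y hx hy
  have hp : ∀ z : G, orderOf z = 4 → IsPGroup 2 ↥(zpowers z) := fun z hz =>
    IsPGroup.of_card (n := 2) (by rw [Nat.card_zpowers, hz]; norm_num)
  obtain ⟨S, hS⟩ := (hp x hx).exists_le_sylow
  obtain ⟨S', hS'⟩ := (hp y hy).exists_le_sylow
  obtain ⟨g, hg⟩ := MulAction.exists_smul_eq G S S'
  haveI := h (S' : Subgroup G) S'.2
  have hle : (zpowers x).map (MulAut.conj g).toMonoidHom ≤ (S' : Subgroup G) := by
    rw [← hg, Sylow.coe_subgroup_smul]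
    exact map_mono hS
  have he : (zpowers x).map (MulAut.conj g).toMonoidHom = zpowers y :=
    Cfsg.Lib.SolvStruct.CyclicProduct.eq_of_card_eq_of_isCyclic hle hS' (by
      rw [card_map_of_injective (MulAut.conj g).injective, Nat.card_zpowers, Nat.card_zpowers, hx, hy])
  obtain ⟨z, hz, hzy⟩ := (he.ge (mem_zpowers y) : y ∈ (zpowers x).map (MulAut.conj g).toMonoidHom)
  obtain ⟨k, rfl⟩ := mem_zpowers_iff.mp hz
  exact ⟨g, k, hzy.symm⟩

/-- a normal quaternion group of order eight: an element of odd order cubes into its centralizer -/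
theorem cube_mem_centralizer (P : Subgroup G) [P.Normal] (e : ↥P ≃* QuaternionGroup 2) {x : G}
    (hx : Odd (orderOf x)) : x ^ 3 ∈ centralizer (P : Set G) := by
  have hP : IsPGroup 2 ↥P := IsPGroup.of_card (n := 3) (by rw [card_eight e]; norm_num)
  have h3 : (MulAut.conjNormal x : MulAut ↥P) ^ 3 = 1 := by
    by_cases h1 : (MulAut.conjNormal x : MulAut ↥P) = 1
    · rw [h1, one_pow]
    · exact (Cfsg.Lib.RankOne.odd_auto_quaternion hP (Or.inr ⟨1, ⟨e⟩⟩) _
        (hx.of_dvd_nat (orderOf_map_dvd _ x)) h1).2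
  refine mem_centralizer_iff.mpr fun v hv => ?_
  rw [← map_pow] at h3
  have := congrArg (fun φ : MulAut ↥P => ((φ ⟨v, hv⟩ : ↥P) : G)) h3
  simp only [MulAut.conjNormal_apply, MulAut.one_apply] at this
  exact (mul_inv_eq_iff_eq_mul.mp this).symm

theorem allConj_of_quaternion (hZ : ZQ G) (hF : Fused G) (P : Subgroup G) [P.Normal]
    (e : ↥P ≃* QuaternionGroup 2) (hC : centralizer (P : Set G) ≤ P) : AllConj G := by
  haveI : Fact (Nat.Prime 2) := ⟨Nat.prime_two⟩
  haveI : Fact (Nat.Prime 3) := ⟨Nat.prime_three⟩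
  have hP : IsPGroup 2 ↥P := IsPGroup.of_card (n := 3) (by rw [card_eight e]; norm_num)
  -- every `2`-element lies in `P`
  have htwo : ∀ W : Subgroup G, IsPGroup 2 ↥W → W ≤ P := by
    intro W hW
    have hsup : IsPGroup 2 ↥(W ⊔ P) := hW.to_sup_of_normal_right hP
    rcases hZ 2 _ hsup with hc | ⟨-, ⟨f⟩⟩
    · exfalso
      haveI : IsCyclic ↥P := isCyclic_of_injective (inclusion (le_sup_right : P ≤ W ⊔ P)) (inclusion_injective _)
      haveI : IsCyclic (QuaternionGroup 2) := e.isCyclic.mp inferInstance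
      exact absurd (IsCyclic.exponent_eq_card (α := QuaternionGroup 2)) (by
        rw [QuaternionGroup.exponent, Nat.card_eq_fintype_card, QuaternionGroup.card]; decide)
    · exact le_sup_left.trans (eq_of_le_of_card_ge le_sup_right (by rw [card_eight e, card_eight f])).ge
  have hidx : (Nat.card ↥P).Coprime P.index := by
    set S : Sylow 2 G := default
    have hPS : P = (S : Subgroup G) := (S.is_maximal' hP (htwo _ S.2) )
    rw [card_eight e]
    refine Nat.Coprime.pow_left 3 (Nat.prime_two.coprime_iff_not_dvd.mpr ?_)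
    rw [hPS]
    exact S.not_dvd_index
  -- odd order subgroups have order at most three
  have hodd : ∀ R : Subgroup G, (Nat.card ↥P).Coprime (Nat.card ↥R) → IsPGroup 3 ↥R ∧ Nat.card ↥R ∣ 3 := by
    intro R hR
    have hcube : ∀ x : ↥R, x ^ 3 = 1 := by
      intro x
      have ho : Odd (orderOf (x : G)) := by
        rw [Nat.odd_iff, ← Nat.two_dvd_ne_zero]
        intro h2
        rw [orderOf_coe] at h2
        have := Nat.eq_one_of_dvd_coprimes hR (show 2 ∣ Nat.card ↥P by rw [card_eight e]; norm_num)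
          (h2.trans (orderOf_dvd_natCard x))
        omega
      exact Subtype.ext (Cfsg.Lib.Coprime.eq_one_of_coprime hR (hC (cube_mem_centralizer P e ho)) (pow_mem x.2 3))
    have h3 : IsPGroup 3 ↥R := fun x => ⟨1, by rw [pow_one]; exact hcube x⟩
    refine ⟨h3, ?_⟩
    rcases hZ 3 R h3 with hc | ⟨h, -⟩
    · obtain ⟨g, hg⟩ := hc.exists_generator
      rw [← orderOf_eq_card_of_forall_mem_zpowers hg]
      exact orderOf_dvd_of_pow_eq_one (hcube g)
    · exact absurd h (by norm_num)
  -- subgroups of `P` of equal order are conjugate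
  have hin : ∀ D D' : Subgroup G, D ≤ P → D' ≤ P → Nat.card ↥D = Nat.card ↥D' → ∃ g, D' = conjMap g D := by
    intro D D' hD hD' hc
    have hcyc : ∀ E : Subgroup G, E ≤ P → E ≠ P → IsCyclic ↥E := by
      intro E hE hne
      rcases hZ 2 E (hP.to_le hE) with h | ⟨-, ⟨f⟩⟩
      · exact h
      · exact absurd (eq_of_le_of_card_ge hE (by rw [card_eight e, card_eight f])) hne
    by_cases hDP : D = P
    · refine ⟨1, ?_⟩
      rw [Cfsg.Lib.Coprime.conjMap_one, hDP, eq_of_le_of_card_ge hD' (by rw [← hc, hDP])]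
    have hD'P : D' ≠ P := fun h => hDP (eq_of_le_of_card_ge hD (by rw [hc, h]))
    obtain ⟨d, rfl⟩ := (Subgroup.isCyclic_iff_exists_zpowers_eq_top D).mp (hcyc D hD hDP)
    obtain ⟨d', rfl⟩ := (Subgroup.isCyclic_iff_exists_zpowers_eq_top D').mp (hcyc D' hD' hD'P)
    rw [Nat.card_zpowers, Nat.card_zpowers] at hc
    by_cases h4 : orderOf d = 4
    · obtain ⟨g, k, hgk⟩ := hF d d' h4 (hc ▸ h4)
      refine ⟨g, eq_of_le_of_card_ge (zpowers_le.mpr ⟨d ^ k, zpow_mem (mem_zpowers d) k, hgk.symm⟩) ?_⟩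
      rw [Cfsg.Lib.Coprime.card_conjMap, Nat.card_zpowers, Nat.card_zpowers, hc]
    refine ⟨1, ?_⟩
    rw [Cfsg.Lib.Coprime.conjMap_one]
    have hsq : ∀ z : ↥P, orderOf (z : G) ≠ 4 → z * z = 1 := fun z hz => by
      by_contra h
      exact hz (by rw [orderOf_coe]; exact order_four e h)
    have hinv : ∀ z : ↥P, z * z = 1 → z = 1 ∨ z = e.symm (QuaternionGroup.a 2) := fun z hz => by
      rcases Cfsg.Lib.RankOne.quaternion_two_involutions (e z) (by rw [← map_mul, hz, map_one]) with h | h
      · exact Or.inl (e.map_eq_one_iff.mp h)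
      · exact Or.inr (by rw [← h, MulEquiv.symm_apply_apply])
    have key : ∀ z z' : ↥P, orderOf (z : G) = orderOf (z' : G) → orderOf (z : G) ≠ 4 → z' = z := by
      intro z z' hzz hz
      have hone : ∀ w w' : ↥P, orderOf (w : G) = orderOf (w' : G) → w = 1 → w' = 1 := fun w w' h hw => by
        rw [hw, OneMemClass.coe_one, orderOf_one] at h
        exact Subtype.ext (orderOf_eq_one_iff.mp h.symm)
      rcases hinv z (hsq z hz), hinv z' (hsq z' (hzz ▸ hz)) with ⟨h1 | h1, h2 | h2⟩
      · rw [h1, h2]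
      · rw [hone z z' hzz h1, h1]
      · rw [hone z' z hzz.symm h2, h2]
      · rw [h1, h2]
    rw [show d' = d from congrArg Subtype.val (key ⟨d, hD (mem_zpowers d)⟩ ⟨d', hD' (mem_zpowers d')⟩ hc h4)]
  intro H K hHK
  have hcD : Nat.card ↥(H ⊓ P) = Nat.card ↥(K ⊓ P) := by rw [card_inf_hall P hidx, card_inf_hall P hidx, hHK]
  obtain ⟨g, hg⟩ := hin _ _ inf_le_right inf_le_right hcD
  obtain ⟨R, hRH, hRsup, hRcop, hRc⟩ := exists_hall_complement P hidx H
  obtain ⟨R', hR'K, hR'sup, hR'cop, hR'c⟩ := exists_hall_complement P hidx K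
  set D := K ⊓ P with hD
  set R₁ := conjMap g R
  have hR₁sup : conjMap g H = D ⊔ R₁ := by rw [← hRsup, Cfsg.Lib.Coprime.conjMap_sup, ← hg]
  have hR₁c : Nat.card ↥R₁ = Nat.card ↥R' := by
    rw [Cfsg.Lib.Coprime.card_conjMap]
    rw [hcD, hHK, hR'c] at hRc
    exact (Nat.eq_of_mul_eq_mul_left Nat.card_pos hRc).symm
  have hN1 : R₁ ≤ normalizer (D : Set G) := by
    rw [hg, Cfsg.Lib.Coprime.normalizer_conjMap]
    exact Cfsg.Lib.Coprime.conjMap_mono (hRH.trans (Cfsg.Lib.Coprime.le_normalizer_inf le_normalizer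
      (by rw [normalizer_eq_top]; exact le_top)))
  have hN2 : R' ≤ normalizer (D : Set G) :=
    hR'K.trans (Cfsg.Lib.Coprime.le_normalizer_inf le_normalizer (by rw [normalizer_eq_top]; exact le_top))
  set N := normalizer (D : Set G)
  have hS : ∀ R₀ : Subgroup G, R₀ ≤ N → (Nat.card ↥P).Coprime (Nat.card ↥R₀) → Nat.card ↥R₀ ≠ 1 →
      ∀ S : Sylow 3 ↥N, R₀.subgroupOf N ≤ (S : Subgroup ↥N) → R₀ = (S : Subgroup ↥N).map N.subtype := by
    intro R₀ hR₀ hcop hne S hle
    have hR3 : Nat.card ↥R₀ = 3 := ((Nat.dvd_prime Nat.prime_three).mp (hodd R₀ hcop).2).resolve_left hne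
    have hS3 : Nat.card ↥((S : Subgroup ↥N).map N.subtype) ∣ 3 := by
      refine (hodd _ ?_).2
      obtain ⟨n, hn⟩ := IsPGroup.iff_card.mp (S.2.map N.subtype)
      rw [hn, card_eight e]
      exact Nat.Coprime.pow 3 n (by norm_num : Nat.Coprime 2 3)
    refine eq_of_le_of_card_ge ?_ ((Nat.le_of_dvd (by norm_num) hS3).trans hR3.ge)
    rw [← map_subgroupOf_eq_of_le hR₀]
    exact map_mono hle
  by_cases h1 : Nat.card ↥R' = 1
  · refine ⟨g, ?_⟩
    have h1' := hR₁c.trans h1
    rw [hR₁sup, ← hR'sup, eq_bot_of_card_eq _ h1, eq_bot_of_card_eq _ h1']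
  have hcop₁ : (Nat.card ↥P).Coprime (Nat.card ↥R₁) := hR₁c ▸ hR'cop
  have h31 := (hodd R₁ hcop₁).1.comap_subtype (K := N)
  have h32 := (hodd R' hR'cop).1.comap_subtype (K := N)
  obtain ⟨S, hS1⟩ := h31.exists_le_sylow
  obtain ⟨S', hS2⟩ := h32.exists_le_sylow
  obtain ⟨n, hn⟩ := MulAction.exists_smul_eq ↥N S S'
  refine ⟨(n : G) * g, ?_⟩
  have hconj : R' = conjMap (n : G) R₁ := by
    rw [hS R' hN2 hR'cop h1 S' hS2, hS R₁ hN1 hcop₁ (hR₁c ▸ h1) S hS1, ← hn, Sylow.coe_subgroup_smul]
    exact Cfsg.Lib.Coprime.map_conjMap N.subtype n _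
  rw [← Cfsg.Lib.Coprime.conjMap_mul, hR₁sup, Cfsg.Lib.Coprime.conjMap_sup, ← hconj,
    Cfsg.Lib.Coprime.conjMap_eq_self n.2, hR'sup]

theorem allConj_aux (n : ℕ) : ∀ (G : Type u) [Group G] [Finite G] [Group.IsSolvable G],
    Nat.card G ≤ n → ZQ G → Fused G → AllConj G := by
  induction n with
  | zero => intro G _ _ _ h; exact absurd h (by have := Nat.card_pos (α := G); omega)
  | succ n ih =>
    intro G _ _ _ hn hZ hF
    classical
    by_cases hq : ∃ q : ℕ, q.Prime ∧ q ≠ 2 ∧ pCore q G ≠ ⊥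
    · obtain ⟨q, hq, hq2, hne⟩ := hq
      haveI := Fact.mk hq
      have hcyc : ∀ W : Subgroup G, IsPGroup q ↥W → IsCyclic ↥W := fun W hW =>
        (hZ q W hW).resolve_right fun h => hq2 h.1
      haveI := hcyc _ (isPGroup_pCore (G := G) q)
      obtain ⟨z, hz⟩ : ∃ z : ↥(pCore q G), orderOf z = q := by
        refine exists_prime_orderOf_dvd_card' q ?_
        obtain ⟨k, hk⟩ := IsPGroup.iff_card.mp (isPGroup_pCore (G := G) q)
        rw [hk]
        refine dvd_pow_self q fun h => hne (eq_bot_of_card_eq _ ?_)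
        rw [hk, h, pow_zero]
      set N := zpowers (z : G)
      have hNc : Nat.card ↥N = q := by rw [Nat.card_zpowers, orderOf_coe, hz]
      haveI hNn : N.Normal := by
        refine Subgroup.normalizer_eq_top_iff.mp (eq_top_iff.mpr fun g _ => ?_)
        rw [← Cfsg.Lib.Coprime.conjMap_eq_self_iff]
        refine Cfsg.Lib.SolvStruct.CyclicProduct.eq_of_card_eq_of_isCyclic (A := pCore q G) ?_
          (zpowers_le.mpr z.2) (Cfsg.Lib.Coprime.card_conjMap g N)
        rw [map_le_iff_le_comap, zpowers_le]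
        exact (inferInstance : (pCore q G).Normal).conj_mem _ z.2 g
      have hNp : IsPGroup q ↥N := IsPGroup.of_card (n := 1) (by rw [hNc, pow_one])
      -- `N` is the only subgroup of order `q`
      have huniq : ∀ y : G, orderOf y = q → y ∈ N := by
        intro y hy
        haveI := hcyc _ ((IsPGroup.of_card (n := 1) (by rw [Nat.card_zpowers, hy, pow_one]) :
          IsPGroup q ↥(zpowers y)).to_sup_of_normal_right hNp)
        rw [← Cfsg.Lib.SolvStruct.CyclicProduct.eq_of_card_eq_of_isCyclic (A := zpowers y ⊔ N) le_sup_left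
          le_sup_right (by rw [Nat.card_zpowers, hy, hNc])]
        exact mem_zpowers y
      set π := QuotientGroup.mk' N
      have hπs : Function.Surjective π := QuotientGroup.mk'_surjective N
      have hker : π.ker = N := QuotientGroup.ker_mk' N
      have hZ' : ZQ (G ⧸ N) := by
        intro p _ W hW
        obtain ⟨S, hS⟩ := hW.exists_le_sylow
        set P : Sylow p G := default
        obtain ⟨c, hc⟩ := MulAction.exists_smul_eq (G ⧸ N) (P.mapSurjective hπs) S
        obtain ⟨g, rfl⟩ := hπs c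
        set V := conjMap g (P : Subgroup G) ⊓ W.comap π with hVdef
        have hVW : V.map π = W := by
          refine le_antisymm (map_le_iff_le_comap.mpr inf_le_right) fun w hw => ?_
          have hwS := hS hw
          rw [← hc, Sylow.coe_subgroup_smul, Sylow.coe_mapSurjective] at hwS
          obtain ⟨_, ⟨x, hx, rfl⟩, rfl⟩ := hwS
          refine ⟨g * x * g⁻¹, ⟨⟨x, hx, rfl⟩, ?_⟩, ?_⟩
          · show π (g * x * g⁻¹) ∈ W
            simpa using hw
          · simp
        have hVp : IsPGroup p ↥V := (P.2.map _).to_le inf_le_left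
        rcases hZ p V hVp with hc | ⟨hp2, ⟨f⟩⟩
        · left
          rw [← hVW]
          haveI := hc
          exact isCyclic_of_surjective _ (π.subgroupMap_surjective V)
        · refine Or.inr ⟨hp2, ⟨?_⟩⟩
          rw [← hVW]
          refine (MulEquiv.ofBijective (π.subgroupMap V) ⟨?_, π.subgroupMap_surjective V⟩).symm.trans f
          rw [injective_iff_map_eq_one]
          intro v hv
          have h1 : (v : G) ∈ N := by
            rw [← hker, MonoidHom.mem_ker]
            exact congrArg Subtype.val hv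
          refine Subtype.ext (Cfsg.Lib.Coprime.eq_one_of_coprime (N := N) (H := V) ?_ h1 v.2)
          rw [hNc, card_eight f]
          exact ((Nat.coprime_primes hq Nat.prime_two).mpr hq2).pow_right 3
      have hF' : Fused (G ⧸ N) := by
        have hqodd := hq.odd_of_ne_two hq2
        have hlift : ∀ a : G ⧸ N, orderOf a = 4 → ∃ x : G, orderOf x = 4 ∧ π x = a ^ q := by
          intro a ha
          obtain ⟨x, rfl⟩ := hπs a
          refine ⟨x ^ q, ?_, map_pow π x q⟩
          have h1 : orderOf (x ^ q) ∣ 4 := by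
            refine orderOf_dvd_of_pow_eq_one ?_
            rw [← pow_mul, mul_comm, pow_mul]
            have h4 : x ^ 4 ∈ N := by
              rw [← hker, MonoidHom.mem_ker, map_pow, ← ha, pow_orderOf_eq_one]
            have h5 : (⟨x ^ 4, h4⟩ : ↥N) ^ q = 1 := by rw [← hNc]; exact pow_card_eq_one'
            exact congrArg Subtype.val h5
          have h2 : 4 ∣ orderOf (x ^ q) := by
            have h3 : orderOf (π x ^ q) = 4 := by
              rw [Nat.Coprime.orderOf_pow, ha]
              rw [ha]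
              exact ((Nat.coprime_primes Nat.prime_two hq).mpr (Ne.symm hq2)).pow_left 2
            rw [← h3, ← map_pow]
            exact orderOf_map_dvd π _
          exact Nat.dvd_antisymm h1 h2
        intro a b ha hb
        obtain ⟨x, hx, hxa⟩ := hlift a ha
        obtain ⟨y, hy, hyb⟩ := hlift b hb
        obtain ⟨g, k, hgk⟩ := hF x y hx hy
        refine ⟨π g, (q : ℤ) * k * q, ?_⟩
        have hb' : b = (b ^ q) ^ q := by
          conv_lhs => rw [← pow_one b]
          rw [← pow_mul, pow_inj_mod, hb]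
          obtain ⟨m, rfl⟩ := hqodd
          ring_nf
          omega
        rw [hb', ← hyb, hgk, map_mul, map_mul, map_inv, map_zpow, hxa, conj_pow, zpow_mul, zpow_mul,
          zpow_natCast, zpow_natCast]
      haveI : Group.IsSolvable (G ⧸ N) := Group.isSolvable_of_surjective hπs
      have hsmall : Nat.card (G ⧸ N) ≤ n := by
        have := card_eq_card_quotient_mul_card_subgroup N
        rw [hNc] at this
        nlinarith [hq.two_le, Nat.card_pos (α := G ⧸ N)]
      intro H K hHK
      have hN0 : ∀ J : Subgroup G, (q ∣ Nat.card ↥J → N ≤ J) ∧ (¬ q ∣ Nat.card ↥J → J ⊓ N = ⊥) := by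
        intro J
        refine ⟨fun h => ?_, fun h => ?_⟩
        · obtain ⟨y, hy⟩ := exists_prime_orderOf_dvd_card' q h
          rw [← orderOf_coe] at hy
          rw [← eq_of_le_of_card_ge (zpowers_le.mpr (huniq _ hy)) (le_of_eq (by rw [Nat.card_zpowers (y : G), hy, hNc])), zpowers_le]
          exact y.2
        · rw [inf_comm]
          exact Cfsg.Lib.Coprime.inf_eq_bot_of_coprime (hNc ▸ hq.coprime_iff_not_dvd.mpr h)
      have hmap : ∀ J : Subgroup G, Nat.card ↥(J ⊓ N) * Nat.card ↥(J.map π) = Nat.card ↥J := by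
        intro J
        have h1 : Nat.card ↥(N.subgroupOf J) = Nat.card ↥(J ⊓ N) := by
          rw [← card_map_of_injective J.subtype_injective, subgroupOf_map_subtype, inf_comm]
        have h2 := (N.subgroupOf J).card_mul_index
        have h3 := relIndex_ker (K := J) π
        rw [hker] at h3
        rw [← h3, ← h1]
        exact h2
      have hinf : Nat.card ↥(H ⊓ N) = Nat.card ↥(K ⊓ N) := by
        by_cases h : q ∣ Nat.card ↥H
        · rw [inf_eq_right.mpr ((hN0 H).1 h), inf_eq_right.mpr ((hN0 K).1 (hHK ▸ h))]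
        · rw [(hN0 H).2 h, (hN0 K).2 (hHK ▸ h)]
      obtain ⟨c, hc⟩ := ih (G ⧸ N) hsmall hZ' hF' (H.map π) (K.map π) (by
        have h1 := hmap H
        have h2 := hmap K
        rw [hinf, hHK] at h1
        exact Nat.eq_of_mul_eq_mul_left Nat.card_pos (h1.trans h2.symm))
      obtain ⟨g, rfl⟩ := hπs c
      rw [← Cfsg.Lib.Coprime.map_conjMap, Subgroup.map_eq_map_iff, hker] at hc
      by_cases h : q ∣ Nat.card ↥H
      · refine ⟨g, ?_⟩
        rwa [sup_eq_left.mpr ((hN0 K).1 (hHK ▸ h)), sup_eq_left.mpr ((hN0 _).1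
          (by rwa [Cfsg.Lib.Coprime.card_conjMap]))] at hc
      · obtain ⟨m, -, hm⟩ := Cfsg.Lib.Coprime.exists_conj_eq_of_coprime (N := N) (H := conjMap g H) (K := K)
          (by rw [normalizer_eq_top]; exact le_top)
          (by rw [Cfsg.Lib.Coprime.card_conjMap, hNc]; exact hq.coprime_iff_not_dvd.mpr h)
          (Or.inl inferInstance) (by rw [sup_comm, ← hc]; exact le_sup_left)
          (by rw [Cfsg.Lib.Coprime.card_conjMap, hHK])
        exact ⟨m * g, by rw [hm, Cfsg.Lib.Coprime.conjMap_mul]⟩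
    push Not at hq
    haveI : Fact (Nat.Prime 2) := ⟨Nat.prime_two⟩
    set P := pCore 2 G
    have hFit : fittingSubgroup G ≤ P := by
      rw [fitting_eq_iSup_pCore]
      refine iSup_le fun q => ?_
      by_cases h : (q : ℕ) = 2
      · rw [h]
      · rw [hq q.1 q.2 h]; exact bot_le
    have hPF : P ≤ fittingSubgroup G := by
      rw [fitting_eq_iSup_pCore]
      exact le_iSup (fun q : Nat.Primes => pCore q.1 G) ⟨2, Nat.prime_two⟩
    have hC : centralizer (P : Set G) ≤ P := by
      have := Cfsg.Lib.Coprime.centralizer_fitting_le (G := G)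
      rwa [le_antisymm hFit hPF] at this
    rcases hZ 2 P (isPGroup_pCore 2) with hc | ⟨-, ⟨e⟩⟩
    · haveI := hc
      obtain ⟨k, hk⟩ := IsPGroup.iff_card.mp (isPGroup_pCore (G := G) 2)
      set f : G →* MulAut ↥P := MulAut.conjNormal
      have hkerP : f.ker ≤ P := by
        refine fun x hx => hC (mem_centralizer_iff.mpr fun v hv => ?_)
        have := congrArg (fun φ : MulAut ↥P => ((φ ⟨v, hv⟩ : ↥P) : G)) (MonoidHom.mem_ker.mp hx)
        simp only [f, MulAut.conjNormal_apply, MulAut.one_apply] at this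
        exact (mul_inv_eq_iff_eq_mul.mp this).symm
      have hcard : ∃ m, Nat.card G = 2 ^ m := by
        have h1 := f.ker.card_mul_index
        rw [index_ker] at h1
        obtain ⟨a, -, ha⟩ := (Nat.dvd_prime_pow Nat.prime_two).mp (hk ▸ card_dvd_of_le hkerP)
        have h2 : Nat.card ↥f.range ∣ 2 ^ (k - 1) := by
          have h3 := f.range.card_subgroup_dvd_card
          rw [IsCyclic.card_mulAut, show Nat.card ↥P = 2 ^ k from hk] at h3
          rcases Nat.eq_zero_or_pos k with rfl | hk0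
          · simpa using h3
          · rwa [Nat.totient_prime_pow Nat.prime_two hk0, Nat.mul_one] at h3
        obtain ⟨b, -, hb⟩ := (Nat.dvd_prime_pow Nat.prime_two).mp h2
        exact ⟨a + b, by rw [← h1, ha, hb, pow_add]⟩
      obtain ⟨m, hm⟩ := hcard
      have htop : IsPGroup 2 ↥(⊤ : Subgroup G) := (IsPGroup.of_card hm).to_subgroup _
      have hPtop : P = ⊤ := top_le_iff.mp (le_sSup ⟨inferInstance, htop⟩)
      haveI : IsCyclic ↥(⊤ : Subgroup G) := hPtop ▸ hc
      exact fun H K h => ⟨1, by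
        rw [Cfsg.Lib.Coprime.conjMap_one]
        exact Cfsg.Lib.SolvStruct.CyclicProduct.eq_of_card_eq_of_isCyclic le_top le_top h.symm⟩
    · exact allConj_of_quaternion hZ hF P e hC

theorem allConj_of_zq [Group.IsSolvable G] (hZ : ZQ G) (hF : Fused G) : AllConj G :=
  allConj_aux _ G le_rfl hZ hF

end Cfsg.Lib.BGroups
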